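import Cfsg.Agent.Lib.Transfer.Thompson

/-!
# Transfer along a subgroup of index two of a Sylow `2`-subgroup

If no involution outside `Q` has a conjugate in `Q`, then `Q` is the Sylow `2`-subgroup of a normal
subgroup of index two.
-/

set_option autoImplicit false
set_option linter.unusedSectionVars false

namespace CfsgLib.CyclicNorm

variable {G : Type*} [Group G] [Finite G]

open Classical in
/-- The transfer of an element of square one all of whose conjugates have the same sign. -/
theorem transfer_sign (S : Sylow 2 G) (φ : ↥(S : Subgroup G) →* ℤˣ) {u : G} (hu : u * u = 1)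
    (c : ℤˣ) (hc : ∀ a : G, ∀ h : a⁻¹ * u * a ∈ (S : Subgroup G), φ ⟨_, h⟩ = c) :
    MonoidHom.transfer φ u = c := by
  haveI := Fact.mk Nat.prime_two
  haveI := Fintype.ofFinite (G ⧸ (S : Subgroup G))
  have hodd : Odd (S : Subgroup G).index :=
    Nat.not_even_iff_odd.mp fun e => S.not_dvd_index (even_iff_two_dvd.mp e)
  rw [CfsgLib.Transfer.transfer_of_sq_eq_one φ hu, Finset.prod_congr rfl (g := fun _ => c)
    (fun q hq => by
      have h := CfsgLib.Transfer.mem_of_smul_eq (Finset.mem_filter.mp hq).2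
      rw [dif_pos h]; exact hc q.out h), Finset.prod_const]
  obtain ⟨k, hk⟩ := CfsgLib.Transfer.odd_card_fixed (H := (S : Subgroup G)) hu hodd
  rw [hk, pow_add, pow_mul, Int.units_sq, one_pow, one_mul, pow_one]

/-- Fusion never entering a subgroup of index two gives a normal subgroup of index two. -/
theorem exists_normal_of_no_fusion (S : Sylow 2 G) {Q : Subgroup G} (hQS : Q ≤ (S : Subgroup G))
    (hprod : ∀ s ∈ (S : Subgroup G), ∀ t ∈ (S : Subgroup G), s ∉ Q → t ∉ Q → s * t ∈ Q)
    (hex : ∃ s ∈ (S : Subgroup G), s ∉ Q)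
    (hinv : ∀ s ∈ (S : Subgroup G), s ∉ Q → s * s = 1)
    (hfus : ∀ s ∈ (S : Subgroup G), s ∉ Q → ∀ g : G, g * s * g⁻¹ ∈ (S : Subgroup G) →
      g * s * g⁻¹ ∉ Q) :
    ∃ (M : Subgroup G) (_ : M.Normal) (T : Sylow 2 M),
      M.index = 2 ∧ (T : Subgroup M) = Q.subgroupOf M ∧ Q ≤ M := by
  classical
  haveI := Fact.mk Nat.prime_two
  obtain ⟨s0, hs0, hs0Q⟩ := hex
  have hidx : (Q.subgroupOf (S : Subgroup G)).index = 2 := by
    refine Subgroup.index_eq_two_iff.mpr ⟨⟨s0, hs0⟩, fun b => ?_⟩
    simp only [Subgroup.mem_subgroupOf, Subgroup.coe_mul]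
    by_cases hb : (b : G) ∈ Q
    · refine Or.inr ⟨hb, fun h => hs0Q ?_⟩
      simpa using Q.mul_mem (Q.inv_mem hb) h
    · exact Or.inl ⟨hprod _ b.2 _ hs0 hb hs0Q, hb⟩
  set φ := CfsgLib.Transfer.sgnHom (Q.subgroupOf (S : Subgroup G)) hidx with hφ
  have hout : ∀ u ∈ (S : Subgroup G), u ∉ Q → MonoidHom.transfer φ u = -1 := by
    intro u hu huQ
    refine transfer_sign S φ (hinv u hu huQ) (-1) fun a h => ?_
    refine (Int.units_eq_one_or _).resolve_left fun h1 => ?_
    have h2 := (CfsgLib.Transfer.sgnHom_eq_one_iff (Q := Q.subgroupOf (S : Subgroup G))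
      (h := hidx)).mp h1
    exact hfus u hu huQ a⁻¹ (by rwa [inv_inv]) (by rw [inv_inv]; exact h2)
  have hin : ∀ q ∈ Q, MonoidHom.transfer φ q = 1 := by
    intro q hq
    have hne : s0 * q ∉ Q := fun h => hs0Q (by simpa using Q.mul_mem h (Q.inv_mem hq))
    have e : q = s0 * (s0 * q) := by rw [← mul_assoc, hinv s0 hs0 hs0Q, one_mul]
    rw [e, map_mul, hout s0 hs0 hs0Q, hout _ (Subgroup.mul_mem _ hs0 (hQS hq)) hne]
    simp
  set M := (MonoidHom.transfer φ).ker with hM
  haveI hMn : M.Normal := MonoidHom.normal_ker _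
  have hQM : Q ≤ M := fun q hq => hin q hq
  have hMidx : M.index = 2 := by
    have hs : (MonoidHom.transfer φ).range = ⊤ := by
      refine top_le_iff.mp fun a _ => ?_
      rcases Int.units_eq_one_or a with rfl | rfl
      · exact one_mem _
      · exact ⟨s0, hout s0 hs0 hs0Q⟩
    rw [hM, Subgroup.index_ker, hs, Subgroup.card_top]
    simp [Nat.card_eq_fintype_card]
  have hSM : ∀ s ∈ (S : Subgroup G), s ∈ M → s ∈ Q := by
    intro s hs hsM
    by_contra hsQ
    have h1 : MonoidHom.transfer φ s = 1 := hsM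
    rw [hout s hs hsQ] at h1
    exact absurd h1 (by decide)
  have hp : IsPGroup 2 (Q.subgroupOf M) :=
    (S.2.to_le hQS).comap_of_injective M.subtype M.subtype_injective
  have hnd : ¬ 2 ∣ (Q.subgroupOf M).index := by
    intro hd
    refine S.not_dvd_index ?_
    have h1 : Q.relIndex M * M.index = Q.index := Subgroup.relIndex_mul_index hQM
    have h2 : Q.relIndex (S : Subgroup G) * (S : Subgroup G).index = Q.index :=
      Subgroup.relIndex_mul_index hQS
    rw [Subgroup.relIndex, hidx] at h2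
    rw [hMidx] at h1
    have h3 : (S : Subgroup G).index = Q.relIndex M := by omega
    rwa [h3]
  exact ⟨M, hMn, hp.toSylow hnd, hMidx, rfl, hQM⟩

end CfsgLib.CyclicNorm
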