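import Cfsg.Agent.Lib.CyclicNorm.Shape

/-!
# The shape of a Sylow `2`-subgroup

Two elements of order at least four of a Sylow `2`-subgroup commute, so the subgroup is abelian or
has an abelian subgroup of index two which is inverted by every element outside it.
-/

set_option autoImplicit false
set_option linter.unusedSectionVars false
set_option linter.style.haveILetI false

namespace CfsgLib.CyclicNorm

variable {G : Type*} [Group G] [Finite G]

theorem noncommuting_swap {x y : G} (h : x * y ≠ y * x) : y * x ≠ x * y := Ne.symm h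

/-- A noncommuting pair of elements of order at least four can be chosen with one of order four. -/
theorem exists_pair_order_four (hH : Hyp G) (S : Sylow 2 G) :
    ∀ n : ℕ, ∀ x y : G, x ∈ (S : Subgroup G) → y ∈ (S : Subgroup G) → x * x ≠ 1 → y * y ≠ 1 →
      x * y ≠ y * x → orderOf x + orderOf y ≤ n →
      ∃ x' y' : G, x' ∈ (S : Subgroup G) ∧ y' ∈ (S : Subgroup G) ∧ x' * x' ≠ 1 ∧
        orderOf (y' * y') = 2 ∧ x' * y' ≠ y' * x' := by
  intro n
  induction n with
  | zero =>
    intro x y _ _ _ _ _ h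
    have := orderOf_pos x
    omega
  | succ n ih =>
    intro x y hx hy hx2 hy2 hne hn
    by_cases hy4 : orderOf (y * y) = 2
    · exact ⟨x, y, hx, hy, hx2, hy4, hne⟩
    by_cases hx4 : orderOf (x * x) = 2
    · exact ⟨y, x, hy, hx, hy2, hx4, hne.symm⟩
    -- both orders are at least eight
    obtain ⟨m, hm⟩ : ∃ m, orderOf x = 2 ^ (m + 3) := by
      obtain ⟨a, ha⟩ := four_le_order S hx hx2
      rcases a with _ | a
      · exfalso; apply hx4
        have := orderOf_pow_half (a := 1) (x := x) (by simpa using ha)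
        simpa [pow_two] using this
      · exact ⟨a, ha⟩
    obtain ⟨l, hl⟩ : ∃ l, orderOf y = 2 ^ (l + 3) := by
      obtain ⟨a, ha⟩ := four_le_order S hy hy2
      rcases a with _ | a
      · exfalso; apply hy4
        have := orderOf_pow_half (a := 1) (x := y) (by simpa using ha)
        simpa [pow_two] using this
      · exact ⟨a, ha⟩
    have hsq : ∀ (u : G) (j : ℕ), orderOf u = 2 ^ (j + 3) →
        orderOf (u * u) = 2 ^ (j + 2) ∧ u * u * (u * u) ≠ 1 := by
      intro u j hj
      have h1 : orderOf (u * u) = 2 ^ (j + 2) := by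
        rw [← pow_two, orderOf_pow_of_dvd two_ne_zero (hj ▸ dvd_pow_self 2 (by omega)), hj]
        rw [show j + 3 = (j + 2) + 1 by omega, pow_succ, Nat.mul_div_cancel _ two_pos]
      refine ⟨h1, fun h => ?_⟩
      have h2 : orderOf (u * u) ∣ 2 := orderOf_dvd_of_pow_eq_one (by rw [pow_two]; exact h)
      rw [h1] at h2
      have h3 := Nat.le_of_dvd two_pos h2
      have h4 : 4 ≤ 2 ^ (j + 2) := by
        rw [pow_add]; have := Nat.two_pow_pos j; omega
      omega
    have hpos : ∀ j : ℕ, 2 ^ (j + 2) < 2 ^ (j + 3) := fun j =>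
      Nat.pow_lt_pow_right one_lt_two (by omega)
    by_cases hA : x * x * y = y * (x * x)
    swap
    · exact ih (x * x) y (Subgroup.mul_mem _ hx hx) hy (hsq x m hm).2 hy2 hA
        (by rw [(hsq x m hm).1]; have := hpos m; omega)
    by_cases hB : x * (y * y) = y * y * x
    swap
    · exact ih x (y * y) hx (Subgroup.mul_mem _ hy hy) hx2 (hsq y l hl).2 hB
        (by rw [(hsq y l hl).1]; have := hpos l; omega)
    -- reduce to the case of `orderOf y ≤ orderOf x`
    suffices key : ∀ (x y : G) (m l : ℕ), x ∈ (S : Subgroup G) → y ∈ (S : Subgroup G) →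
        x * y ≠ y * x → x * x * y = y * (x * x) → x * (y * y) = y * y * x →
        orderOf x = 2 ^ (m + 3) → orderOf y = 2 ^ (l + 3) → l ≤ m →
        orderOf x + orderOf y ≤ n + 1 →
        ∃ x' y' : G, x' ∈ (S : Subgroup G) ∧ y' ∈ (S : Subgroup G) ∧ x' * x' ≠ 1 ∧
          orderOf (y' * y') = 2 ∧ x' * y' ≠ y' * x' by
      rcases le_total l m with hlm | hlm
      · exact key x y m l hx hy hne hA hB hm hl hlm hn
      · exact key y x l m hy hx hne.symm hB.symm hA.symm hl hm hlm (by omega)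
    clear hne hA hB hn hm hl hx4 hy4 hx hy hx2 hy2 x y m l
    intro x y m l hx hy hne hA hB hm hl hlm hn
    have hx2 : x * x ≠ 1 := by
      intro h
      have h1 : orderOf x ∣ 2 := orderOf_dvd_of_pow_eq_one (by rw [pow_two]; exact h)
      rw [hm] at h1
      have := Nat.le_of_dvd two_pos h1
      have : 8 ≤ 2 ^ (m + 3) := by rw [pow_add]; have := Nat.two_pow_pos m; omega
      omega
    have hy2 : y * y ≠ 1 := by
      intro h
      have h1 : orderOf y ∣ 2 := orderOf_dvd_of_pow_eq_one (by rw [pow_two]; exact h)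
      rw [hl] at h1
      have := Nat.le_of_dvd two_pos h1
      have : 8 ≤ 2 ^ (l + 3) := by rw [pow_add]; have := Nat.two_pow_pos l; omega
      omega
    set z := x ^ 2 ^ (m + 2) with hz
    have hz2 : orderOf z = 2 := orderOf_pow_half hm
    have hzy : y ^ 2 ^ (l + 2) = z :=
      (involution_eq hH S hx hy hx2 hy2 hne (Subgroup.pow_mem _ (Subgroup.mem_zpowers x) _) hz2
        (Subgroup.pow_mem _ (Subgroup.mem_zpowers y) _) (orderOf_pow_half hl)).symm
    -- the commutator is `z`
    have hc := commutator_mem hH S hx hy hx2 hy2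
    set c := x * y * x⁻¹ * y⁻¹ with hcdef
    have hc1 : c ≠ 1 := by
      intro h
      rw [hcdef, mul_inv_eq_one, mul_inv_eq_iff_eq_mul] at h
      exact hne h
    have hcc : c * c = 1 := by
      have h1 : x * c = c * x := comm_of_mem_zpowers (Subgroup.mem_zpowers x) hc.1
      calc c * c = c * (x * x⁻¹) * c := by group
        _ = x * c * x⁻¹ * c := by rw [h1]; group
        _ = x * x * y * (x * x)⁻¹ * y⁻¹ := by rw [hcdef]; group
        _ = 1 := by rw [hA]; group
    have hcz : c = z := inv_unique hc.1 (Subgroup.pow_mem _ (Subgroup.mem_zpowers x) _)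
      (orderOf_two_iff.mpr ⟨hcc, hc1⟩) hz2
    have hconj : y * x * y⁻¹ = z * x := by
      have h1 : x * y = z * (y * x) := by rw [← hcz, hcdef]; group
      have hzinv : z * z = 1 := (orderOf_two_iff.mp hz2).1
      calc y * x * y⁻¹ = z * z * (y * x) * y⁻¹ := by rw [hzinv, one_mul]
        _ = z * (x * y) * y⁻¹ := by rw [h1]; group
        _ = z * x := by group
    have hzx : Commute z x := (Commute.refl x).pow_left _
    have hzy' : Commute z y := hzy ▸ (Commute.refl y).pow_left _
    -- the new element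
    set j := 2 ^ (m - l) with hj
    set y' := y * x ^ j with hy'
    have hy'S : y' ∈ (S : Subgroup G) := Subgroup.mul_mem _ hy (Subgroup.pow_mem _ hx _)
    have hconjp : ∀ k : ℕ, y * x ^ k * y⁻¹ = z ^ k * x ^ k := by
      intro k
      rw [← conj_pow, hconj, hzx.mul_pow]
    have hsq' : y' * y' = (y * y) * (z ^ j * (x ^ j * x ^ j)) := by
      have h1 : y⁻¹ * x ^ j * y = z ^ j * x ^ j := by
        have h2 := hconjp j
        have h3 : Commute y (z ^ j) := (hzy'.symm).pow_right j
        calc y⁻¹ * x ^ j * y = y⁻¹ * (z ^ j * (z ^ j * x ^ j)) * y := by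
              rw [← mul_assoc (z ^ j), ← pow_add, ← two_mul, pow_mul z,
                pow_two z, (orderOf_two_iff.mp hz2).1, one_pow, one_mul]
          _ = z ^ j * (y⁻¹ * (z ^ j * x ^ j) * y) := by
              rw [← mul_assoc, h3.inv_left.eq]; group
          _ = z ^ j * x ^ j := by
              rw [show y⁻¹ * (z ^ j * x ^ j) * y = x ^ j by rw [← h2]; group]
      calc y' * y' = y * y * (y⁻¹ * x ^ j * y) * x ^ j := by rw [hy']; group
        _ = (y * y) * (z ^ j * (x ^ j * x ^ j)) := by rw [h1]; group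
    have hpow : y' ^ 2 ^ (l + 2) = 1 := by
      have hcx : Commute (y * y) x := hB.symm
      have hcz2 : Commute (y * y) z := (hzy'.mul_right hzy').symm
      have eA : (z ^ j) ^ 2 ^ (l + 1) = 1 := by
        rw [← pow_mul z, pow_succ', ← mul_assoc, mul_comm j 2, mul_assoc, pow_mul z, pow_two z,
          (orderOf_two_iff.mp hz2).1, one_pow]
      have eB : (x ^ (j + j)) ^ 2 ^ (l + 1) = z := by
        rw [← pow_mul x, hj, ← mul_two, mul_assoc, ← pow_succ', ← pow_add, hz,
          show m - l + (l + 1 + 1) = m + 2 by omega]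
      have eC : (y * y) ^ 2 ^ (l + 1) = z := by
        rw [← pow_two, ← pow_mul y, ← pow_succ', hzy]
      rw [pow_succ', pow_mul, pow_two, hsq', ← pow_add,
        ((hcz2.pow_right j).mul_right (hcx.pow_right (j + j))).mul_pow,
        ((hzx.pow_pow j (j + j))).mul_pow, eA, eB, eC, one_mul, (orderOf_two_iff.mp hz2).1]
    have hne' : x * y' ≠ y' * x := by
      intro h
      refine hne (mul_right_cancel (b := x ^ j) ?_)
      rw [mul_assoc, ← hy', h, hy', mul_assoc, mul_assoc, ← pow_succ, ← pow_succ']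
    by_cases h2 : y' * y' = 1
    · set w := y' * x ^ 2 ^ (m + 1) with hw
      have hcomm : Commute y' (x ^ 2 ^ (m + 1)) := by
        have h3 : y * x ^ 2 ^ (m + 1) * y⁻¹ = x ^ 2 ^ (m + 1) := by
          rw [hconjp, pow_succ' 2 m, pow_mul z, pow_two z, (orderOf_two_iff.mp hz2).1, one_pow,
            one_mul]
        exact Commute.mul_left (mul_inv_eq_iff_eq_mul.mp h3) ((Commute.refl x).pow_pow _ _)
      have hw2 : w * w = z := by
        rw [hw, ← pow_two, hcomm.mul_pow, pow_two, h2, one_mul, ← pow_mul, ← pow_succ]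
      refine ⟨x, w, hx, Subgroup.mul_mem _ hy'S (Subgroup.pow_mem _ hx _), hx2,
        by rw [hw2]; exact hz2, ?_⟩
      intro h
      refine hne' (mul_right_cancel (b := x ^ 2 ^ (m + 1)) ?_)
      rw [mul_assoc x y', ← hw, h, hw, mul_assoc y' _ x, mul_assoc y' x,
        ((Commute.refl x).pow_left _).eq]
    · refine ih x y' hx hy'S hx2 h2 hne' ?_
      have h3 := Nat.le_of_dvd (Nat.two_pow_pos _) (orderOf_dvd_of_pow_eq_one hpow)
      have := hpos l
      omega

/-- Elements of order at least four commute. -/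
theorem big_commute (hH : Hyp G) (hsem : Sem G) (S : Sylow 2 G) {x y : G}
    (hx : x ∈ (S : Subgroup G)) (hy : y ∈ (S : Subgroup G)) (hx2 : x * x ≠ 1) (hy2 : y * y ≠ 1) :
    x * y = y * x := by
  classical
  haveI := Fact.mk Nat.prime_two
  by_contra hne0
  obtain ⟨x, y, hx, hy, hx2, hz2, hne⟩ :=
    exists_pair_order_four hH S _ x y hx hy hx2 hy2 hne0 le_rfl
  set z := y * y with hz
  obtain ⟨hzz, hz1⟩ := orderOf_two_iff.mp hz2
  have hy2' : y * y ≠ 1 := hz1
  have hzC : (S : Subgroup G) ≤ cent z := square_central hH S hy hz2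
  have hzS : z ∈ (S : Subgroup G) := Subgroup.mul_mem _ hy hy
  have hzy : z ∈ Subgroup.zpowers y :=
    Subgroup.mul_mem _ (Subgroup.mem_zpowers y) (Subgroup.mem_zpowers y)
  have hzc : ∀ q ∈ (S : Subgroup G), Commute q z := fun q hq => mem_cent.mp (hzC hq)
  have hinvx : ∀ a ∈ Subgroup.zpowers x, orderOf a = 2 → a = z := fun a ha ha2 =>
    involution_eq hH S hx hy hx2 hy2' hne ha ha2 hzy hz2
  -- every element of order at least four has `z` among its powers
  have huniq : ∀ w ∈ (S : Subgroup G), w * w ≠ 1 → z ∈ Subgroup.zpowers w := by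
    intro w hw hw2
    obtain ⟨a, ha⟩ := four_le_order S hw hw2
    have hb := orderOf_pow_half ha
    set b := w ^ 2 ^ (a + 1) with hbdef
    have hbw : b ∈ Subgroup.zpowers w := Subgroup.pow_mem _ (Subgroup.mem_zpowers w) _
    by_contra hzw
    have hbz : b ≠ z := fun h => hzw (h ▸ hbw)
    set w' := w ^ 2 ^ a with hw'
    have hw'w' : w' * w' = b := by rw [hw', hbdef, ← pow_add, ← mul_two, ← pow_succ]
    have hw'2 : w' * w' ≠ 1 := by rw [hw'w']; exact (orderOf_two_iff.mp hb).2
    have hw'S : w' ∈ (S : Subgroup G) := Subgroup.pow_mem _ hw _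
    have hbw' : b ∈ Subgroup.zpowers w' :=
      hw'w' ▸ Subgroup.mul_mem _ (Subgroup.mem_zpowers w') (Subgroup.mem_zpowers w')
    have hyw : y * w' = w' * y := by
      by_contra h
      exact hbz (involution_eq hH S hy hw'S hy2' hw'2 h hzy hz2 hbw' hb).symm
    have hxw : x * w' = w' * x := by
      by_contra h
      obtain ⟨a', ha'⟩ := four_le_order S hx hx2
      have h1 := hinvx _ (Subgroup.pow_mem _ (Subgroup.mem_zpowers x) _) (orderOf_pow_half ha')
      exact hbz ((involution_eq hH S hx hw'S hx2 hw'2 h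
        (Subgroup.pow_mem _ (Subgroup.mem_zpowers x) _) (orderOf_pow_half ha') hbw' hb).symm.trans h1)
    have hbS : b ∈ (S : Subgroup G) := Subgroup.pow_mem _ hw _
    have hsq : (y * w') * (y * w') = z * b := by
      rw [← pow_two, Commute.mul_pow hyw, pow_two, pow_two, hw'w']
    have hzb2 : orderOf (z * b) = 2 := by
      refine orderOf_two_iff.mpr ⟨?_, fun h => hbz ?_⟩
      · rw [← pow_two, Commute.mul_pow (hzc b hbS).symm, pow_two, pow_two, hzz,
          (orderOf_two_iff.mp hb).1, one_mul]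
      · rw [eq_inv_of_mul_eq_one_right h, inv_eq_of_mul_eq_one_right hzz]
    have hne' : x * (y * w') ≠ y * w' * x := by
      intro h
      refine hne (mul_right_cancel (b := w') ?_)
      rw [mul_assoc, h, mul_assoc, ← hxw, ← mul_assoc]
    obtain ⟨a', ha'⟩ := four_le_order S hx hx2
    have h1 := hinvx _ (Subgroup.pow_mem _ (Subgroup.mem_zpowers x) _) (orderOf_pow_half ha')
    have h2 : z * b = z := by
      refine (involution_eq hH S hx (Subgroup.mul_mem _ hy hw'S) hx2
        (by rw [hsq]; exact (orderOf_two_iff.mp hzb2).2) hne'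
        (Subgroup.pow_mem _ (Subgroup.mem_zpowers x) _) (orderOf_pow_half ha') ?_ hzb2).symm.trans h1
      exact hsq ▸ Subgroup.mul_mem _ (Subgroup.mem_zpowers _) (Subgroup.mem_zpowers _)
    exact (orderOf_two_iff.mp hb).2 (mul_eq_left.mp h2)
  -- a conjugate of `z` in `S`
  obtain ⟨g, hgS, hgz⟩ : ∃ g : G, g * z * g⁻¹ ∈ S ∧ g * z * g⁻¹ ≠ z := by
    by_contra hno
    push Not at hno
    obtain ⟨N, hNn, hNo, hN⟩ := Cfsg.Agent.S0215.result S z hz2 hzS hno
    have hNb := eq_bot_of_odd_normal hsem hNn hNo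
    have hcen : ∀ k : G, k * z = z * k := fun k => by
      have h1 := hN k
      rw [hNb, Subgroup.mem_bot, mul_inv_eq_one, mul_inv_eq_iff_eq_mul] at h1
      exact h1.symm
    have hzn : (Subgroup.zpowers z).Normal := ⟨fun a ha k => by
      obtain ⟨i, rfl⟩ := ha
      rw [((Commute.zpow_right (show Commute k z from hcen k) i)).eq, mul_inv_cancel_right]
      exact ⟨i, rfl⟩⟩
    exact hz1 (Subgroup.zpowers_eq_bot.mp (hsem _ hzn inferInstance))
  set s := g * z * g⁻¹ with hs
  have hs2 : orderOf s = 2 := by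
    show orderOf (MulAut.conj g z) = 2
    rw [MulEquiv.orderOf_eq]; exact hz2
  obtain ⟨hss, hs1⟩ := orderOf_two_iff.mp hs2
  have hsinv : s⁻¹ = s := inv_eq_of_mul_eq_one_right hss
  -- elements of `S` commuting with `s` are involutions
  have helem : ∀ q ∈ (S : Subgroup G), q * s = s * q → q * q = 1 := by
    intro q hq hqs
    by_contra hq2
    have hgle : ((g • S : Sylow 2 G) : Subgroup G) ≤ cent s := by
      intro a ha
      rw [Sylow.coe_subgroup_smul, Subgroup.mem_pointwise_smul_iff_inv_smul_mem,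
        ← map_inv, MulAut.smul_def, MulAut.conj_apply, inv_inv] at ha
      have := conj_mem_cent (g := g) (hzC ha)
      rwa [show g * (g⁻¹ * a * g) * g⁻¹ = a by group] at this
    set Q := ((S : Subgroup G) ⊓ cent s).subgroupOf (cent s) with hQ
    have hQp : IsPGroup 2 Q :=
      (S.2.to_le inf_le_left).comap_of_injective (cent s).subtype (cent s).subtype_injective
    obtain ⟨P, hP⟩ := hQp.exists_le_sylow
    obtain ⟨c, hc⟩ := MulAction.exists_smul_eq (cent s) P ((g • S : Sylow 2 G).subtype hgle)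
    set m := g⁻¹ * (c : G) with hm
    have hconj : ∀ a ∈ (S : Subgroup G), a ∈ cent s → m * a * m⁻¹ ∈ (S : Subgroup G) := by
      intro a ha has
      have h1 : c * ⟨a, has⟩ * c⁻¹ ∈ ((g • S : Sylow 2 G).subtype hgle : Subgroup (cent s)) := by
        rw [← hc, Sylow.coe_subgroup_smul, Subgroup.mem_pointwise_smul_iff_inv_smul_mem,
          ← map_inv, MulAut.smul_def, MulAut.conj_apply, inv_inv]
        have h2 : (⟨a, has⟩ : cent s) ∈ P := hP ⟨ha, has⟩
        rw [show c⁻¹ * (c * ⟨a, has⟩ * c⁻¹) * c = ⟨a, has⟩ by group]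
        exact h2
      rw [Sylow.coe_subtype, Subgroup.mem_subgroupOf, Sylow.coe_subgroup_smul,
        Subgroup.mem_pointwise_smul_iff_inv_smul_mem, ← map_inv, MulAut.smul_def,
        MulAut.conj_apply, inv_inv] at h1
      simpa [hm, mul_assoc] using h1
    have hms : m * s * m⁻¹ = z := by
      have h1 := conj_fix_of_mem_cent c.2
      calc m * s * m⁻¹ = g⁻¹ * ((c : G) * s * (c : G)⁻¹) * g := by rw [hm]; group
        _ = z := by rw [h1, hs]; group
    have hq' : m * q * m⁻¹ ∈ (S : Subgroup G) := hconj q hq (mem_cent.mpr hqs)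
    have hq'2 : m * q * m⁻¹ * (m * q * m⁻¹) ≠ 1 := by
      rw [show m * q * m⁻¹ * (m * q * m⁻¹) = m * (q * q) * m⁻¹ by group]
      exact fun h => hq2 (conj_eq_one_iff.mp h)
    have h1 : m * z * m⁻¹ ∈ Subgroup.zpowers (m * q * m⁻¹) := by
      obtain ⟨i, hi⟩ := huniq q hq hq2
      exact ⟨i, by simp only at hi ⊢; rw [conj_zpow, hi]⟩
    have h2 : orderOf (m * z * m⁻¹) = 2 := by
      show orderOf (MulAut.conj m z) = 2
      rw [MulEquiv.orderOf_eq]; exact hz2
    have h3 := inv_unique h1 (huniq _ hq' hq'2) h2 hz2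
    refine hgz (mul_left_cancel (a := m) (mul_right_cancel (b := m⁻¹) ?_))
    rw [hms, h3]
  -- `s` inverts the elements of order four
  have hinv : ∀ w ∈ (S : Subgroup G), w * w = z → s * w * s⁻¹ = w⁻¹ := by
    intro w hw hwz
    have hw2 : w * w ≠ 1 := hwz ▸ hz1
    obtain ⟨i, hi⟩ := Subgroup.mem_zpowers_iff.mp
      (conj_mem_zpowers (sylow_normalizes hH S hw hw2 hgS) (Subgroup.mem_zpowers w))
    have h4 : w ^ (4 : ℤ) = 1 := by
      rw [show (4 : ℤ) = 2 * 2 by norm_num, zpow_mul, zpow_two, zpow_two, hwz, hzz]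
    rcases Int.even_or_odd i with ⟨k, rfl⟩ | ⟨k, rfl⟩
    · exfalso
      have h5 : (s * w * s⁻¹) * (s * w * s⁻¹) = 1 := by
        rw [← hi, ← zpow_add, show k + k + (k + k) = 4 * k by ring, zpow_mul, h4, one_zpow]
      rw [show (s * w * s⁻¹) * (s * w * s⁻¹) = s * (w * w) * s⁻¹ by group] at h5
      exact hw2 (conj_eq_one_iff.mp h5)
    · rcases Int.even_or_odd k with ⟨e, rfl⟩ | ⟨e, rfl⟩
      · exfalso
        rw [show 2 * (e + e) + 1 = 4 * e + 1 by ring, zpow_add, zpow_mul, h4, one_zpow, one_mul,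
          zpow_one] at hi
        exact hw2 (helem w hw (mul_inv_eq_iff_eq_mul.mp hi.symm).symm)
      · rw [← hi, show 2 * (2 * e + 1) + 1 = 4 * (e + 1) + -1 by ring, zpow_add, zpow_mul, h4,
          one_zpow, one_mul, zpow_neg_one]
  have hfour : ∀ u v : G, u ∈ (S : Subgroup G) → v ∈ (S : Subgroup G) → u * u = z → v * v = z →
      s * (u * v) = u * v * s ∧ u * v = v * u := by
    intro u v hu hv huz hvz
    have hui : u⁻¹ = u * z := inv_eq_of_mul_eq_one_right (by rw [← mul_assoc, huz, hzz])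
    have hvi : v⁻¹ = v * z := inv_eq_of_mul_eq_one_right (by rw [← mul_assoc, hvz, hzz])
    have h1 : s * (u * v) * s⁻¹ = u * v := by
      rw [show s * (u * v) * s⁻¹ = (s * u * s⁻¹) * (s * v * s⁻¹) by group, hinv u hu huz,
        hinv v hv hvz, hui, hvi, mul_assoc u, ← mul_assoc z v, (hzc v hv).eq.symm, mul_assoc v,
        hzz, mul_one]
    have h2 := mul_inv_eq_iff_eq_mul.mp h1
    refine ⟨h2, ?_⟩
    have h3 := helem (u * v) (Subgroup.mul_mem _ hu hv) h2.symm
    rw [eq_inv_of_mul_eq_one_left h3, mul_inv_rev, hui, hvi, mul_assoc v, ← mul_assoc z u,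
      (hzc u hu).eq.symm, mul_assoc u, hzz, mul_one]
  obtain ⟨a, ha⟩ := four_le_order S hx hx2
  set x' := x ^ 2 ^ a with hx'
  have hx'S : x' ∈ (S : Subgroup G) := Subgroup.pow_mem _ hx _
  have hx'x' : x' * x' = z := by
    refine hinvx _ (Subgroup.mul_mem _ ?_ ?_) ?_
    · exact Subgroup.pow_mem _ (Subgroup.mem_zpowers x) _
    · exact Subgroup.pow_mem _ (Subgroup.mem_zpowers x) _
    · rw [hx', ← pow_add, ← mul_two, ← pow_succ]; exact orderOf_pow_half ha
  rcases a with _ | a
  · rw [pow_zero, pow_one] at hx'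
    exact hne (hfour x y hx hy (hx' ▸ hx'x') rfl).2
  -- the conjugate of `x` by `y`
  have hc := commutator_mem hH S hx hy hx2 hy2'
  set c := x * y * x⁻¹ * y⁻¹ with hcdef
  have hcz : c = z := by
    obtain ⟨i, hi⟩ := Subgroup.mem_zpowers_iff.mp hc.2
    rcases Int.even_or_odd i with ⟨k, rfl⟩ | ⟨k, rfl⟩
    · rw [← two_mul, zpow_mul, zpow_two, ← hz] at hi
      rcases Int.even_or_odd k with ⟨e, rfl⟩ | ⟨e, rfl⟩
      · rw [← two_mul, zpow_mul, zpow_two, hzz, one_zpow] at hi
        rw [hcdef, eq_comm, mul_inv_eq_one, mul_inv_eq_iff_eq_mul] at hi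
        exact absurd hi hne
      · rw [← hi, zpow_add, zpow_mul, zpow_two, hzz, one_zpow, one_mul, zpow_one]
    · exfalso
      refine hne ?_
      have h1 : y ∈ Subgroup.zpowers x := by
        have h2 : y = c * (z ^ k)⁻¹ := by
          rw [← hi, zpow_add, zpow_mul, zpow_two, ← hz, zpow_one, mul_assoc]
          rw [((hzc y hy).zpow_right k).inv_right.eq, mul_inv_cancel_left]
        rw [h2]
        refine Subgroup.mul_mem _ hc.1 (Subgroup.inv_mem _ (Subgroup.zpow_mem _ ?_ k))
        rw [← hx'x']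
        exact Subgroup.mul_mem _ (Subgroup.pow_mem _ (Subgroup.mem_zpowers x) _)
          (Subgroup.pow_mem _ (Subgroup.mem_zpowers x) _)
      exact comm_of_mem_zpowers (Subgroup.mem_zpowers x) h1
  have hconj : y * x * y⁻¹ = z * x := by
    have h1 : x * y = z * (y * x) := by rw [← hcz, hcdef]; group
    calc y * x * y⁻¹ = z * z * (y * x) * y⁻¹ := by rw [hzz, one_mul]
      _ = z * (x * y) * y⁻¹ := by rw [h1]; group
      _ = z * x := by group
  have hyx' : y * x' = x' * y := by
    refine mul_inv_eq_iff_eq_mul.mp ?_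
    rw [hx', ← conj_pow, hconj, (hzc x hx).symm.mul_pow, pow_succ' 2 a, pow_mul z, pow_two,
      hzz, one_pow, one_mul]
  set e := x' * y with he
  have heS : e ∈ (S : Subgroup G) := Subgroup.mul_mem _ hx'S hy
  have hse : s * e = e * s := (hfour x' y hx'S hy hx'x' rfl).1
  have hee : e * e = 1 := helem e heS hse.symm
  have hex : e * x * e⁻¹ = z * x := by
    calc e * x * e⁻¹ = x' * (y * x * y⁻¹) * x'⁻¹ := by rw [he]; group
      _ = x' * (z * x) * x'⁻¹ := by rw [hconj]
      _ = z * x := by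
        rw [← mul_assoc x', (hzc x' hx'S).eq, mul_assoc z x' x, hx',
          ((Commute.refl x).pow_left _).eq, ← mul_assoc z x, mul_inv_cancel_right]
  have hex' : e * x' * e⁻¹ = x' := by
    rw [mul_inv_eq_iff_eq_mul, he, mul_assoc, hyx']
  -- an involution not inverting `x`
  obtain ⟨i, hiS, hii, hix', hix⟩ : ∃ i ∈ (S : Subgroup G), i * i = 1 ∧
      i * x' * i⁻¹ = x'⁻¹ ∧ i * x * i⁻¹ ≠ x⁻¹ := by
    by_cases hsx : s * x * s⁻¹ = x⁻¹
    · refine ⟨s * e, Subgroup.mul_mem _ hgS heS, ?_, ?_, ?_⟩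
      · rw [← pow_two, Commute.mul_pow hse, pow_two, pow_two, hss, hee, one_mul]
      · rw [show s * e * x' * (s * e)⁻¹ = s * (e * x' * e⁻¹) * s⁻¹ by group, hex',
          hinv x' hx'S hx'x']
      · rw [show s * e * x * (s * e)⁻¹ = s * (e * x * e⁻¹) * s⁻¹ by group, hex,
          show s * (z * x) * s⁻¹ = (s * z * s⁻¹) * (s * x * s⁻¹) by group, hsx,
          mul_inv_eq_iff_eq_mul.mpr (hzc s hgS).eq]
        exact fun h => hz1 (mul_eq_right.mp h)
    · exact ⟨s, hgS, hss, hinv x' hx'S hx'x', hsx⟩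
  obtain ⟨k, hk⟩ := Subgroup.mem_zpowers_iff.mp
    (conj_mem_zpowers (sylow_normalizes hH S hx hx2 hiS) (Subgroup.mem_zpowers x))
  have hox' : orderOf x' = 4 := by
    rw [show (4 : ℕ) = 2 ^ (1 + 1) by norm_num]
    refine orderOf_eq_prime_pow ?_ ?_
    · rw [pow_one, pow_two, hx'x']; exact hz1
    · rw [show (2 : ℕ) ^ (1 + 1) = 2 * 2 by norm_num, pow_mul, pow_two, pow_two, hx'x', hzz]
  have hx'k : ∀ n : ℤ, x ^ n = 1 → (4 : ℤ) ∣ n := by
    intro n hn
    have := orderOf_dvd_iff_zpow_eq_one.mpr (show x' ^ n = 1 by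
      rw [hx', ← zpow_natCast, ← zpow_mul, mul_comm, zpow_mul, hn, one_zpow])
    rwa [hox'] at this
  have hk4 : (4 : ℤ) ∣ k + 1 := by
    have h1 : x' ^ k = x'⁻¹ := by
      rw [← hix', hx', ← conj_pow, ← hk, ← zpow_natCast, ← zpow_mul, ← zpow_natCast, ← zpow_mul,
        mul_comm]
    have := orderOf_dvd_iff_zpow_eq_one.mpr (show x' ^ (k + 1) = 1 by
      rw [zpow_add, h1, zpow_one, inv_mul_cancel])
    rwa [hox'] at this
  set v := x * i with hv
  have hvS : v ∈ (S : Subgroup G) := Subgroup.mul_mem _ hx hiS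
  have hiinv : i⁻¹ = i := inv_eq_of_mul_eq_one_right hii
  have hvv : v * v = x ^ (1 + k) := by
    rw [zpow_add, zpow_one, hk, hv, hiinv]; group
  have hv2 : v * v ≠ 1 := by
    intro h
    refine hix (eq_inv_of_mul_eq_one_right ?_)
    rw [← hk, ← h, hvv, zpow_add, zpow_one]
  obtain ⟨j, hj⟩ := Subgroup.mem_zpowers_iff.mp
    (conj_mem_zpowers (sylow_normalizes hH S hvS hv2 hx) (Subgroup.mem_zpowers v))
  have hxv : x * v * x⁻¹ = x ^ (1 - k) * v := by
    have h1 : i * x⁻¹ * i = x ^ (-k) := by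
      rw [zpow_neg, hk, hiinv]
      rw [mul_inv_rev, mul_inv_rev, hiinv, mul_assoc]
    calc x * v * x⁻¹ = x * x * (i * x⁻¹ * i) * i := by
          rw [hv, show x * x * (i * x⁻¹ * i) * i = x * x * (i * x⁻¹) * (i * i) by group, hii]
          group
      _ = x ^ (1 - k) * v := by
          rw [h1, hv, sub_eq_add_neg, zpow_add, zpow_one]
          rw [show x * x ^ (-k) * (x * i) = x * (x ^ (-k) * x) * i by group,
            ((Commute.refl x).zpow_left (-k)).eq]
          group
  rcases Int.even_or_odd j with ⟨q, rfl⟩ | ⟨q, rfl⟩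
  · have h1 : x ^ (1 - k) * (x * i) = x ^ ((1 + k) * q) := by
      rw [← hv, ← hxv, ← hj, ← two_mul, zpow_mul, zpow_two, hvv, ← zpow_mul]
    have h2 : i ∈ Subgroup.zpowers x := by
      have : i = x⁻¹ * ((x ^ (1 - k))⁻¹ * x ^ ((1 + k) * q)) := by rw [← h1]; group
      rw [this]
      exact Subgroup.mul_mem _ (Subgroup.inv_mem _ (Subgroup.mem_zpowers x))
        (Subgroup.mul_mem _ (Subgroup.inv_mem _ (Subgroup.zpow_mem _ (Subgroup.mem_zpowers x) _))
          (Subgroup.zpow_mem _ (Subgroup.mem_zpowers x) _))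
    have h3 : i * x' * i⁻¹ = x' := mul_inv_eq_iff_eq_mul.mpr
      (comm_of_mem_zpowers h2 (Subgroup.pow_mem _ (Subgroup.mem_zpowers x) _))
    rw [hix'] at h3
    have h4 : x' * x' = 1 := by
      nth_rewrite 1 [← h3]
      exact inv_mul_cancel x'
    exact hz1 (hx'x' ▸ h4)
  · have h1 : x ^ ((1 + k) * q) = x ^ (1 - k) := by
      refine mul_right_cancel (b := v) ?_
      rw [← hxv, ← hj, zpow_add, zpow_mul v, zpow_two, hvv, ← zpow_mul, zpow_one]
    have h2 := hx'k ((1 + k) * q - (1 - k)) (by rw [zpow_sub, h1, mul_inv_cancel])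
    obtain ⟨r, hr⟩ := hk4
    obtain ⟨t, ht⟩ := h2
    have h3 : (1 + k) * q = 4 * (r * q) := by rw [← mul_assoc, ← hr]; ring
    omega

/-- A Sylow `2`-subgroup is abelian or is a generalized dihedral extension of an abelian group. -/
theorem shape (hH : Hyp G) (hsem : Sem G) (S : Sylow 2 G) :
    (∀ a ∈ (S : Subgroup G), ∀ b ∈ (S : Subgroup G), a * b = b * a) ∨
    ∃ A : Subgroup G, A ≤ (S : Subgroup G) ∧ (∀ a ∈ A, ∀ b ∈ A, a * b = b * a) ∧
      (∃ a ∈ A, a * a ≠ 1) ∧ (∃ s ∈ (S : Subgroup G), s ∉ A) ∧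
      (∀ s ∈ (S : Subgroup G), s ∉ A → s * s = 1 ∧ ∀ a ∈ A, s * a * s⁻¹ = a⁻¹) ∧
      ∀ s ∈ (S : Subgroup G), ∀ t ∈ (S : Subgroup G), s ∉ A → t ∉ A → s * t ∈ A := by
  set B : Set G := {x | x ∈ (S : Subgroup G) ∧ x * x ≠ 1} with hB
  set A := Subgroup.closure B with hA
  have hAS : A ≤ (S : Subgroup G) := (Subgroup.closure_le _).mpr fun x hx => hx.1
  have hAab : ∀ a ∈ A, ∀ b ∈ A, a * b = b * a := by
    have h1 : B ⊆ Subgroup.centralizer B := fun x hx y hy =>
      big_commute hH hsem S hy.1 hx.1 hy.2 hx.2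
    have h2 : A ≤ Subgroup.centralizer (B : Set G) := (Subgroup.closure_le _).mpr h1
    have h3 : B ⊆ Subgroup.centralizer (A : Set G) := fun x hx a ha =>
      (Subgroup.mem_centralizer_iff.mp (h2 ha) x hx).symm
    exact fun a ha b hb =>
      Subgroup.mem_centralizer_iff.mp ((Subgroup.closure_le _).mpr h3 hb) a ha
  have hout : ∀ s ∈ (S : Subgroup G), s ∉ A → s * s = 1 ∧ ∀ a ∈ A, s * a * s⁻¹ = a⁻¹ := by
    have h0 : ∀ s ∈ (S : Subgroup G), s ∉ A → s * s = 1 := fun s hs hsA => by
      by_contra h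
      exact hsA (Subgroup.subset_closure ⟨hs, h⟩)
    intro s hs hsA
    refine ⟨h0 s hs hsA, fun a ha => ?_⟩
    have h1 := h0 (s * a) (Subgroup.mul_mem _ hs (hAS ha)) fun h => hsA (by
      simpa using A.mul_mem h (A.inv_mem ha))
    rw [inv_eq_of_mul_eq_one_right (h0 s hs hsA)]
    exact eq_inv_of_mul_eq_one_left (by rw [← h1]; group)
  by_cases hbig : ∃ a ∈ A, a * a ≠ 1
  · by_cases hex : ∃ s ∈ (S : Subgroup G), s ∉ A
    · obtain ⟨a, ha, ha2⟩ := hbig
      refine Or.inr ⟨A, hAS, hAab, ⟨a, ha, ha2⟩, hex, hout, fun s hs t ht hsA htA => ?_⟩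
      by_contra hst
      refine ha2 ?_
      have h1 := (hout _ (Subgroup.mul_mem _ hs ht) hst).2 a ha
      rw [show s * t * a * (s * t)⁻¹ = s * (t * a * t⁻¹) * s⁻¹ by group, (hout t ht htA).2 a ha,
        (hout s hs hsA).2 _ (A.inv_mem ha), inv_inv] at h1
      nth_rewrite 1 [h1]
      exact inv_mul_cancel a
    · push Not at hex
      exact Or.inl fun a ha b hb => hAab a (hex a ha) b (hex b hb)
  · push Not at hbig
    have h0 : ∀ s ∈ (S : Subgroup G), s * s = 1 := fun s hs => by
      by_contra h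
      exact h (hbig s (Subgroup.subset_closure ⟨hs, h⟩))
    refine Or.inl fun a ha b hb => ?_
    have h1 := h0 _ (Subgroup.mul_mem _ ha hb)
    rw [eq_inv_of_mul_eq_one_left h1, mul_inv_rev, inv_eq_of_mul_eq_one_right (h0 a ha),
      inv_eq_of_mul_eq_one_right (h0 b hb)]

end CfsgLib.CyclicNorm
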