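import Cfsg.Agent.Lib.CyclicNorm.CaseC
import Cfsg.Agent.Lib.CyclicNorm.Fusion
import Cfsg.Agent.Lib.CyclicNorm.Shape2
import Cfsg.Agent.S0215

/-!
# Abelian Sylow `2`-subgroups
-/

set_option autoImplicit false
set_option linter.unusedSectionVars false
set_option linter.style.haveILetI false

namespace CfsgLib.CyclicNorm

variable {G : Type*} [Group G] [Finite G]

/-- The conclusion `G ≅ PSL(2, F)`. -/
def IsPSLTwo (G : Type*) [Group G] : Prop :=
  ∃ (F : Type) (_ : Field F) (_ : Fintype F),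
    Nonempty (G ≃* Matrix.ProjectiveSpecialLinearGroup (Fin 2) F)

/-- The dihedral configuration. -/
structure Dih (S : Sylow 2 G) (A : Subgroup G) (z : G) : Prop where
  le : A ≤ (S : Subgroup G)
  mem : z ∈ A
  inv : orderOf z = 2
  uniq : ∀ a ∈ A, a * a = 1 → a = 1 ∨ a = z
  comm : ∀ a ∈ A, ∀ b ∈ A, a * b = b * a
  out : ∀ s ∈ (S : Subgroup G), s ∉ A → s * s = 1 ∧ ∀ a ∈ A, s * a * s⁻¹ = a⁻¹
  prod : ∀ s ∈ (S : Subgroup G), ∀ t ∈ (S : Subgroup G), s ∉ A → t ∉ A → s * t ∈ A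
  ex : ∃ s ∈ (S : Subgroup G), s ∉ A
  invK : ∀ s ∈ (S : Subgroup G), s ∉ A → ∀ y ∈ core z, s * y * s⁻¹ = y⁻¹
  cen : ∀ a ∈ A, ∀ y ∈ core z, a * y = y * a

theorem not_isolated (hsem : Sem G) (S : Sylow 2 G) {z : G} (hz : orderOf z = 2)
    (hzS : z ∈ (S : Subgroup G)) : ∃ g : G, g * z * g⁻¹ ∈ S ∧ g * z * g⁻¹ ≠ z := by
  obtain ⟨hzz, hz1⟩ := orderOf_two_iff.mp hz
  by_contra hno
  push Not at hno
  obtain ⟨N, hNn, hNo, hN⟩ := Cfsg.Agent.S0215.result S z hz hzS hno
  have hNb := eq_bot_of_odd_normal hsem hNn hNo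
  have hcen : ∀ k : G, k * z = z * k := fun k => by
    have h1 := hN k
    rw [hNb, Subgroup.mem_bot, mul_inv_eq_one, mul_inv_eq_iff_eq_mul] at h1
    exact h1.symm
  have hzn : (Subgroup.zpowers z).Normal := ⟨fun a ha k => by
    obtain ⟨i, rfl⟩ := ha
    rw [((Commute.zpow_right (show Commute k z from hcen k) i)).eq, mul_inv_cancel_right]
    exact ⟨i, rfl⟩⟩
  exact hz1 (Subgroup.zpowers_eq_bot.mp (hsem _ hzn inferInstance))

/-- An involution of `C(t)` has the same centralizer or inverts all elements of odd order. -/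
theorem inverts_odd (hH : Hyp G) {t s y : G} (ht : orderOf t = 2) (hs : orderOf s = 2)
    (hst : s ∈ cent t) (hne : cent s ≠ cent t) (hy : y ∈ cent t) (ho : Odd (orderOf y)) :
    s * y * s⁻¹ = y⁻¹ := by
  have h1 := conj_mem_zpowers (cent_normalizes_odd hH ht hy ho hst) (Subgroup.mem_zpowers y)
  have hw : y * (s * y * s⁻¹) ∈ Subgroup.zpowers y :=
    Subgroup.mul_mem _ (Subgroup.mem_zpowers y) h1
  by_contra hne'
  refine hne (cent_eq_of_commute hH ht hs (y := y * (s * y * s⁻¹)) ?_ ?_ ?_ ?_)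
  · exact (cent t).mul_mem hy ((cent t).mul_mem ((cent t).mul_mem hst hy) ((cent t).inv_mem hst))
  · exact ho.of_dvd_nat (orderOf_dvd_of_mem_zpowers hw)
  · exact fun h => hne' (eq_inv_of_mul_eq_one_right h)
  · refine mem_cent_symm (mem_cent_of_conj_fix ?_)
    have hss : s * s = 1 := (orderOf_two_iff.mp hs).1
    calc s * (y * (s * y * s⁻¹)) * s⁻¹ = (s * y * s⁻¹) * ((s * s) * y * (s * s)⁻¹) := by
          group
      _ = (s * y * s⁻¹) * y := by rw [hss]; group
      _ = y * (s * y * s⁻¹) := comm_of_mem_zpowers h1 (Subgroup.mem_zpowers y)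

theorem odd_mem_of_index_two {M : Subgroup G} [M.Normal] (h : M.index = 2) {y : G}
    (ho : Odd (orderOf y)) : y ∈ M := by
  rw [← QuotientGroup.eq_one_iff, ← orderOf_eq_one_iff]
  refine Nat.eq_one_of_dvd_coprimes (Nat.coprime_two_left.mpr ho) ?_
    (orderOf_map_dvd (QuotientGroup.mk' M) y)
  rw [← h, Subgroup.index_eq_card]
  exact orderOf_dvd_natCard _

/-- In an abelian Sylow subgroup conjugation of involutions is controlled by the normalizer. -/
theorem exists_normalizer_conj (S : Sylow 2 G)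
    (hab : ∀ a ∈ (S : Subgroup G), ∀ b ∈ (S : Subgroup G), a * b = b * a) {s g : G}
    (hs : s ∈ (S : Subgroup G)) (hg : g * s * g⁻¹ ∈ (S : Subgroup G)) :
    ∃ n ∈ Subgroup.normalizer ((S : Subgroup G) : Set G), g * s * g⁻¹ = n * s * n⁻¹ := by
  haveI := Fact.mk Nat.prime_two
  have hc : ∀ a ∈ (S : Subgroup G), a ∈ Subgroup.centralizer ((S : Subgroup G) : Set G) :=
    fun a ha => Subgroup.mem_centralizer_iff.mpr fun b hb => hab b hb a ha
  obtain ⟨n, hn, he⟩ := S.conj_eq_normalizer_conj_of_mem_centralizer s g⁻¹ (hc s hs)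
    (by rw [inv_inv]; exact hc _ hg)
  exact ⟨n⁻¹, Subgroup.inv_mem _ hn, by rw [inv_inv] at he; rw [he, inv_inv]⟩

theorem core_transport (hH : Hyp G) {t s n : G} (ht : orderOf t = 2) (hs : orderOf s = 2)
    (he : cent (n * s * n⁻¹) = cent t) (hK : ∃ y ∈ core t, y ≠ 1) : ∃ y ∈ core s, y ≠ 1 := by
  obtain ⟨y, hy, hy1⟩ := hK
  refine ⟨n⁻¹ * y * n, mem_core hH hs ?_ ?_, fun h => hy1 ?_⟩
  · have := conj_mem_cent (g := n⁻¹) (show y ∈ cent (n * s * n⁻¹) from he ▸ core_le t hy)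
    rwa [show n⁻¹ * (n * s * n⁻¹) * n⁻¹⁻¹ = s by group, inv_inv] at this
  · rw [show n⁻¹ * y * n = n⁻¹ * y * n⁻¹⁻¹ by group, orderOf_conj]
    exact odd_of_mem_core hy
  · calc y = n * (n⁻¹ * y * n) * n⁻¹ := by group
      _ = 1 := by rw [h]; group

theorem big_involution (S : Sylow 2 G) {x : G} (hx : x ∈ (S : Subgroup G)) (hx2 : x * x ≠ 1) :
    ∃ r ∈ Subgroup.zpowers x, orderOf r = 2 ∧ x * x ∈ Subgroup.zpowers x := by
  obtain ⟨a, ha⟩ := four_le_order S hx hx2
  exact ⟨_, Subgroup.pow_mem _ (Subgroup.mem_zpowers x) _, orderOf_pow_half ha,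
    Subgroup.mul_mem _ (Subgroup.mem_zpowers x) (Subgroup.mem_zpowers x)⟩

/-- An element of order at least four centralizes the odd part of the centralizer of its
involution. -/
theorem big_centralizes (hH : Hyp G) {x r y : G} {k : ℕ} (hxk : x ^ 2 ^ k = 1)
    (hr : r ∈ Subgroup.zpowers x) (hr2 : orderOf r = 2) (hy : y ∈ core r) : x * y = y * x := by
  have hxr : x ∈ cent r := mem_cent.mpr (comm_of_mem_zpowers (Subgroup.mem_zpowers x) hr)
  have h1 := Subgroup.mul_mem _ (Subgroup.mem_zpowers x) (conj_mem_zpowers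
    (cent_normalizes hH hr2 hr (core_le r hy)) (Subgroup.inv_mem _ (Subgroup.mem_zpowers x)))
  have h2 : x * (y * x⁻¹ * y⁻¹) ∈ core r := by
    rw [show x * (y * x⁻¹ * y⁻¹) = (x * y * x⁻¹) * y⁻¹ by group]
    exact (core r).mul_mem (conj_mem_core hxr hy) ((core r).inv_mem hy)
  obtain ⟨i, hi⟩ := Subgroup.mem_zpowers_iff.mp h1
  have h3 := eq_one_of_mem_core_of_two h2 (k := k) (by
    rw [← hi, ← zpow_natCast, ← zpow_mul, mul_comm, zpow_mul, zpow_natCast, hxk, one_zpow])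
  rw [show x * (y * x⁻¹ * y⁻¹) = x * y * x⁻¹ * y⁻¹ by group, mul_inv_eq_one,
    mul_inv_eq_iff_eq_mul] at h3
  exact h3

theorem abelian_big (hH : Hyp G) (hsem : Sem G) (S : Sylow 2 G)
    (hab : ∀ a ∈ (S : Subgroup G), ∀ b ∈ (S : Subgroup G), a * b = b * a) {x₀ : G}
    (hx₀ : x₀ ∈ (S : Subgroup G)) (hx₀2 : x₀ * x₀ ≠ 1) : False := by
  haveI := Fact.mk Nat.prime_two
  have hSc : ∀ t ∈ (S : Subgroup G), (S : Subgroup G) ≤ cent t := fun t ht s hs =>
    mem_cent.mpr (hab s hs t ht)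
  obtain ⟨r, hr, hr2, -⟩ := big_involution S hx₀ hx₀2
  have hrS : r ∈ (S : Subgroup G) := Subgroup.zpowers_le.mpr hx₀ hr
  obtain ⟨g, hgS, hgne⟩ := not_isolated hsem S hr2 hrS
  have hbig : ∀ w ∈ (S : Subgroup G), w * w ≠ 1 → ∀ i ∈ Subgroup.zpowers w, orderOf i = 2 →
      ∀ y ∈ core i, w * y = y * w := by
    intro w hw _ i hi hi2 y hy
    obtain ⟨k, hk⟩ := S.2 ⟨w, hw⟩
    exact big_centralizes hH (k := k) (by simpa using congrArg Subtype.val hk) hi hi2 hy
  -- a square involution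
  have hsquare : ∀ w ∈ (S : Subgroup G), w * w ≠ 1 → ∀ i ∈ Subgroup.zpowers w, orderOf i = 2 →
      (∃ y ∈ core i, y ≠ 1) →
      ∀ t ∈ (S : Subgroup G), orderOf t = 2 → cent t = cent i := by
    intro w hw hw2 i hi hi2 ⟨y, hy, hy1⟩ t ht ht2
    have hiS : i ∈ (S : Subgroup G) := Subgroup.zpowers_le.mpr hw hi
    have hwt : w * t * (w * t) = w * w := by
      rw [mul_assoc, ← mul_assoc t w, hab t ht w hw, mul_assoc w t, (orderOf_two_iff.mp ht2).1,
        mul_one]
    have hwt2 : w * t * (w * t) ≠ 1 := by rw [hwt]; exact hw2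
    have hiw : i ∈ Subgroup.zpowers (w * t) := by
      obtain ⟨a, ha⟩ := four_le_order S hw hw2
      have e : i = w ^ 2 ^ (a + 1) := inv_unique hi (Subgroup.pow_mem _ (Subgroup.mem_zpowers w) _)
        hi2 (orderOf_pow_half ha)
      refine e ▸ ?_
      rw [pow_succ', pow_mul, pow_two, ← hwt, ← pow_two, ← pow_mul]
      exact Subgroup.pow_mem _ (Subgroup.mem_zpowers _) _
    have h1 := hbig (w * t) (Subgroup.mul_mem _ hw ht) hwt2 i hiw hi2 y hy
    have h2 := hbig w hw hw2 i hi hi2 y hy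
    have h3 : t * y = y * t := by
      refine mul_left_cancel (a := w) ?_
      rw [← mul_assoc, h1, ← mul_assoc y w t, ← mul_assoc w y t, h2]
    exact cent_eq_of_commute hH hi2 ht2 (core_le i hy) (odd_of_mem_core hy) hy1
      (mem_cent.mpr h3.symm)
  have hfin : ∀ z ∈ (S : Subgroup G), orderOf z = 2 →
      (∀ t ∈ (S : Subgroup G), orderOf t = 2 → cent t = cent z) → False := by
    intro z hz hz2 hall
    have hcen : ∀ s ∈ (S : Subgroup G), ∀ c ∈ cent z, c * s = s * c := by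
      intro s hs c hc
      by_cases hs2 : s * s = 1
      · by_cases hs1 : s = 1
        · rw [hs1, mul_one, one_mul]
        · rw [← hall s hs (orderOf_two_iff.mpr ⟨hs2, hs1⟩)] at hc
          exact mem_cent.mp hc
      · obtain ⟨i, hi, hi2, -⟩ := big_involution S hs hs2
        rw [← hall i (Subgroup.zpowers_le.mpr hs hi) hi2] at hc
        obtain ⟨k, hk, q, hq, rfl⟩ :=
          cent_decomp hH hi2 S (hSc i (Subgroup.zpowers_le.mpr hs hi)) hc
        have hk' := hbig s hs hs2 i hi hi2 k hk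
        rw [mul_assoc, hab q hq s hs, ← mul_assoc, ← hk', mul_assoc]
    have hz' : ∃ z' ∈ (S : Subgroup G), orderOf z' = 2 ∧ z' ≠ z := by
      by_cases h : r = z
      · exact ⟨g * r * g⁻¹, hgS, by rw [orderOf_conj]; exact hr2, h ▸ hgne⟩
      · exact ⟨r, hrS, hr2, h⟩
    obtain ⟨z', hz'S, hz'2, hne⟩ := hz'
    exact hx₀2 ((case_common hH hsem S hz hz'S hz2 hz'2 hne hall hcen).2.1 x₀ hx₀)
  by_cases hK : ∃ w ∈ (S : Subgroup G), w * w ≠ 1 ∧ ∃ i ∈ Subgroup.zpowers w, orderOf i = 2 ∧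
      ∃ y ∈ core i, y ≠ 1
  · obtain ⟨w, hw, hw2, i, hi, hi2, hy⟩ := hK
    exact hfin i (Subgroup.zpowers_le.mpr hw hi) hi2 (hsquare w hw hw2 i hi hi2 hy)
  push Not at hK
  by_cases hall1 : ∀ t ∈ (S : Subgroup G), orderOf t = 2 → ∀ y ∈ core t, y = 1
  · have hC : ∀ t ∈ (S : Subgroup G), orderOf t = 2 → cent t = (S : Subgroup G) := by
      intro t ht ht2
      refine le_antisymm (fun c hc => ?_) (hSc t ht)
      obtain ⟨k, hk, q, hq, rfl⟩ := cent_decomp hH ht2 S (hSc t ht) hc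
      rw [hall1 t ht ht2 k hk, one_mul]
      exact hq
    exact hfin r hrS hr2 fun t ht ht2 => (hC t ht ht2).trans (hC r hrS hr2).symm
  push Not at hall1
  obtain ⟨t, ht, ht2, y, hy, hy1⟩ := hall1
  -- every square involution inverts `y`
  have hinv : ∀ w ∈ (S : Subgroup G), w * w ≠ 1 → ∀ i ∈ Subgroup.zpowers w, orderOf i = 2 →
      i * y * i⁻¹ = y⁻¹ ∧ cent i ≠ cent t := by
    intro w hw hw2 i hi hi2
    have hne : cent i ≠ cent t := fun e => hy1 (hK w hw hw2 i hi hi2 y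
      (mem_core hH hi2 (e ▸ core_le t hy) (odd_of_mem_core hy)))
    exact ⟨inverts_odd hH ht2 hi2 (hSc t ht (Subgroup.zpowers_le.mpr hw hi)) hne (core_le t hy)
      (odd_of_mem_core hy), hne⟩
  -- so there is only one of them
  have huniq : ∀ w ∈ (S : Subgroup G), w * w ≠ 1 → ∀ i ∈ Subgroup.zpowers w, orderOf i = 2 →
      i = r := by
    intro w hw hw2 i hi hi2
    by_contra hne
    have hiS : i ∈ (S : Subgroup G) := Subgroup.zpowers_le.mpr hw hi
    obtain ⟨a, ha⟩ := four_le_order S hw hw2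
    obtain ⟨b, hb⟩ := four_le_order S hx₀ hx₀2
    set u := x₀ ^ 2 ^ b * w ^ 2 ^ a with hu
    have huS : u ∈ (S : Subgroup G) :=
      Subgroup.mul_mem _ (Subgroup.pow_mem _ hx₀ _) (Subgroup.pow_mem _ hw _)
    have e1 : r = x₀ ^ 2 ^ (b + 1) := inv_unique hr
      (Subgroup.pow_mem _ (Subgroup.mem_zpowers _) _) hr2 (orderOf_pow_half hb)
    have e2 : i = w ^ 2 ^ (a + 1) := inv_unique hi
      (Subgroup.pow_mem _ (Subgroup.mem_zpowers _) _) hi2 (orderOf_pow_half ha)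
    have huu : u * u = r * i := by
      rw [hu, ← pow_two, (Commute.mul_pow (hab _ (Subgroup.pow_mem _ hx₀ _) _
        (Subgroup.pow_mem _ hw _))), ← pow_mul, ← pow_mul, ← pow_succ, ← pow_succ, e1, e2]
    have hri1 : r * i ≠ 1 := fun h => hne (by
      rw [eq_inv_of_mul_eq_one_right h, inv_eq_of_mul_eq_one_right (orderOf_two_iff.mp hr2).1])
    have hri : orderOf (r * i) = 2 := orderOf_two_iff.mpr ⟨by
      rw [← pow_two, Commute.mul_pow (hab r hrS i hiS), pow_two, pow_two,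
        (orderOf_two_iff.mp hr2).1, (orderOf_two_iff.mp hi2).1, one_mul], hri1⟩
    have h1 := (hinv u huS (huu ▸ hri1) (r * i)
      (huu ▸ Subgroup.mul_mem _ (Subgroup.mem_zpowers u) (Subgroup.mem_zpowers u)) hri).2
    refine h1 (cent_eq_of_commute hH ht2 hri (core_le t hy) (odd_of_mem_core hy) hy1
      (mem_cent_symm (mem_cent_of_conj_fix ?_)))
    rw [show r * i * y * (r * i)⁻¹ = r * (i * y * i⁻¹) * r⁻¹ by group,
      (hinv w hw hw2 i hi hi2).1, show r * y⁻¹ * r⁻¹ = (r * y * r⁻¹)⁻¹ by group,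
      (hinv x₀ hx₀ hx₀2 r hr hr2).1, inv_inv]
  obtain ⟨n, hn, he⟩ := exists_normalizer_conj S hab hrS hgS
  refine hgne (he ▸ huniq (n * x₀ * n⁻¹) ((Subgroup.mem_normalizer_iff.mp hn _).mp hx₀)
    (fun h => hx₀2 ?_) _ ?_ (by rw [orderOf_conj]; exact hr2))
  · rw [show n * x₀ * n⁻¹ * (n * x₀ * n⁻¹) = n * (x₀ * x₀) * n⁻¹ by group] at h
    exact conj_eq_one_iff.mp h
  · obtain ⟨i, hi⟩ := Subgroup.mem_zpowers_iff.mp hr
    exact ⟨i, by simp only; rw [conj_zpow, hi]⟩

/-- The abelian case. -/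
theorem abelian_case [Nontrivial G] (hH : Hyp G) (hsem : Sem G) (S : Sylow 2 G)
    (hab : ∀ a ∈ (S : Subgroup G), ∀ b ∈ (S : Subgroup G), a * b = b * a) :
    IsPSLTwo G ∨ ∃ A z, Dih S A z := by
  classical
  haveI := Fact.mk Nat.prime_two
  have h2 : ∀ s ∈ (S : Subgroup G), s * s = 1 := fun s hs => by
    by_contra h
    exact abelian_big hH hsem S hab hs h
  have hSc : ∀ t ∈ (S : Subgroup G), (S : Subgroup G) ≤ cent t := fun t ht s hs =>
    mem_cent.mpr (hab s hs t ht)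
  obtain ⟨z, hzS, hz⟩ : ∃ z ∈ (S : Subgroup G), orderOf z = 2 := by
    obtain ⟨x, hx⟩ := exists_prime_orderOf_dvd_card' (G := (S : Subgroup G)) 2
      (S.dvd_card_of_dvd_card (even_card hsem))
    exact ⟨x, x.2, by rw [Subgroup.orderOf_coe, hx]⟩
  obtain ⟨g, hgS, hgne⟩ := not_isolated hsem S hz hzS
  by_cases hall : ∀ t ∈ (S : Subgroup G), orderOf t = 2 → cent t = cent z
  · refine Or.inl (case_common hH hsem S hzS hgS hz (by rw [orderOf_conj]; exact hz) hgne hall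
      fun s hs c hc => ?_).2.2
    by_cases hs1 : s = 1
    · rw [hs1, mul_one, one_mul]
    · rw [← hall s hs (orderOf_two_iff.mpr ⟨h2 s hs, hs1⟩)] at hc
      exact mem_cent.mp hc
  -- some involution has a nontrivial odd part
  obtain ⟨t, htS, ht, hK⟩ : ∃ t ∈ (S : Subgroup G), orderOf t = 2 ∧ ∃ y ∈ core t, y ≠ 1 := by
    by_contra hno
    push Not at hno
    have hC : ∀ t ∈ (S : Subgroup G), orderOf t = 2 → cent t = (S : Subgroup G) := by
      intro t ht ht2
      refine le_antisymm (fun c hc => ?_) (hSc t ht)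
      obtain ⟨k, hk, q, hq, rfl⟩ := cent_decomp hH ht2 S (hSc t ht) hc
      rw [hno t ht ht2 k hk, one_mul]
      exact hq
    exact hall fun t ht ht2 => (hC t ht ht2).trans (hC z hzS hz).symm
  obtain ⟨y, hy, hy1⟩ := id hK
  -- the involutions with the centralizer of `t`
  set H := (S : Subgroup G) ⊓ Subgroup.centralizer (core t : Set G) with hHdef
  have hHc : ∀ s ∈ (S : Subgroup G), orderOf s = 2 → (s ∈ H ↔ cent s = cent t) := by
    intro s hs hs2
    constructor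
    · intro hsH
      refine cent_eq_of_commute hH ht hs2 (core_le t hy) (odd_of_mem_core hy) hy1 ?_
      exact mem_cent.mpr ((Subgroup.mem_centralizer_iff.mp hsH.2) y hy)
    · intro e
      refine ⟨hs, Subgroup.mem_centralizer_iff.mpr fun k hk => ?_⟩
      exact mem_cent.mp (e ▸ core_le t hk)
  have hne : ∀ s ∈ (S : Subgroup G), s ∉ H → orderOf s = 2 ∧ cent s ≠ cent t := by
    intro s hs hsH
    have hs2 : orderOf s = 2 := orderOf_two_iff.mpr ⟨h2 s hs, fun e => hsH (e ▸ H.one_mem)⟩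
    exact ⟨hs2, fun e => hsH ((hHc s hs hs2).mpr e)⟩
  have hout : ∀ s ∈ (S : Subgroup G), s ∉ H → ∀ k ∈ core t, s * k * s⁻¹ = k⁻¹ := fun s hs hsH k hk =>
    inverts_odd hH ht (hne s hs hsH).1 (hSc t htS hs) (hne s hs hsH).2 (core_le t hk)
      (odd_of_mem_core hk)
  have hprod : ∀ s ∈ (S : Subgroup G), ∀ u ∈ (S : Subgroup G), s ∉ H → u ∉ H → s * u ∈ H := by
    intro s hs u hu hsH huH
    refine ⟨Subgroup.mul_mem _ hs hu, Subgroup.mem_centralizer_iff.mpr fun k hk => ?_⟩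
    refine (mul_inv_eq_iff_eq_mul.mp ?_).symm
    rw [show s * u * k * (s * u)⁻¹ = s * (u * k * u⁻¹) * s⁻¹ by group, hout u hu huH k hk,
      show s * k⁻¹ * s⁻¹ = (s * k * s⁻¹)⁻¹ by group, hout s hs hsH k hk, inv_inv]
  have hex : ∃ s ∈ (S : Subgroup G), s ∉ H := by
    by_contra hno
    push Not at hno
    refine hall fun u hu hu2 => ?_
    rw [(hHc u hu hu2).mp (hno u hu), (hHc z hzS hz).mp (hno z hzS)]
  have htH : t ∈ H := (hHc t htS ht).mpr rfl
  by_cases hH2 : ∀ h ∈ H, h = 1 ∨ h = t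
  · refine Or.inr ⟨H, t, inf_le_left, htH, ht, fun a ha _ => hH2 a ha,
      fun a ha b hb => hab a ha.1 b hb.1, fun s hs _ => ⟨h2 s hs, fun a ha => ?_⟩, hprod, hex, hout,
      fun a ha k hk => ((Subgroup.mem_centralizer_iff.mp ha.2) k hk).symm⟩
    rw [hab s hs a ha.1, mul_inv_cancel_right, inv_eq_of_mul_eq_one_right (h2 a ha.1)]
  · exfalso
    push Not at hH2
    obtain ⟨t', ht'H, ht'1, ht't⟩ := hH2
    have ht'2 : orderOf t' = 2 := orderOf_two_iff.mpr ⟨h2 t' ht'H.1, ht'1⟩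
    -- outside `H` the odd parts are trivial
    have houtK : ∀ s ∈ (S : Subgroup G), s ∉ H → ∀ k ∈ core s, k = 1 := by
      intro s hs hsH k hk
      by_contra hk1
      have hs2 := (hne s hs hsH).1
      set H' := (S : Subgroup G) ⊓ cent k with hH'
      have hmem : ∀ u ∈ H, u ≠ 1 → u ∉ H' := by
        intro u hu hu1 huk
        have hu2 := orderOf_two_iff.mpr ⟨h2 u hu.1, hu1⟩
        exact (hne s hs hsH).2 ((cent_eq_of_commute hH hs2 hu2 (core_le s hk) (odd_of_mem_core hk)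
          hk1 (mem_cent_symm huk.2)).symm.trans ((hHc u hu.1 hu2).mp hu))
      have hinv : ∀ u ∈ H, u ≠ 1 → u * k * u⁻¹ = k⁻¹ := by
        intro u hu hu1
        have hu2 := orderOf_two_iff.mpr ⟨h2 u hu.1, hu1⟩
        refine inverts_odd hH hs2 hu2 (hSc s hs hu.1) (fun e => ?_) (core_le s hk)
          (odd_of_mem_core hk)
        exact (hne s hs hsH).2 (e.symm.trans ((hHc u hu.1 hu2).mp hu))
      refine hmem (t * t') (H.mul_mem htH ht'H) (fun h => ht't ?_) ⟨Subgroup.mul_mem _ htS ht'H.1,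
        mem_cent_of_conj_fix ?_⟩
      · rw [eq_inv_of_mul_eq_one_right h, inv_eq_of_mul_eq_one_right (h2 t htS)]
      · rw [show t * t' * k * (t * t')⁻¹ = t * (t' * k * t'⁻¹) * t⁻¹ by group, hinv t' ht'H ht'1,
          show t * k⁻¹ * t⁻¹ = (t * k * t⁻¹)⁻¹ by group,
          hinv t htH (orderOf_two_iff.mp ht).2, inv_inv]
    obtain ⟨M, hMn, T, hMi, hT, hHM⟩ := exists_normal_of_no_fusion S inf_le_left hprod hex
      (fun s hs _ => h2 s hs) (by
        intro s hs hsH a haS haH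
        obtain ⟨n, hn, he⟩ := exists_normalizer_conj S hab hs haS
        rw [he] at haS haH
        obtain ⟨k, hk, hk1⟩ := core_transport hH ht (hne s hs hsH).1
          ((hHc _ haS (by rw [orderOf_conj]; exact (hne s hs hsH).1)).mp haH) hK
        exact hk1 (houtK s hs hsH k hk))
    haveI := hMn
    have hc : ∀ u v : M, v ∈ cent u ↔ (v : G) ∈ cent (u : G) := fun u v => by
      rw [mem_cent, mem_cent, Subtype.ext_iff]; rfl
    have hT' : ∀ u : M, u ∈ (T : Subgroup M) ↔ (u : G) ∈ H := fun u => by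
      rw [hT, Subgroup.mem_subgroupOf]
    have hord : ∀ u : M, orderOf u = 2 → orderOf (u : G) = 2 := fun u hu => by
      rw [Subgroup.orderOf_coe, hu]
    have h3 := (case_common (hH.subgroup M) (hsem.subgroup M) T (z := ⟨t, hHM htH⟩)
      (z' := ⟨t', hHM ht'H⟩) ((hT' _).mpr htH) ((hT' _).mpr ht'H)
      (by rw [← Subgroup.orderOf_coe]; exact ht) (by rw [← Subgroup.orderOf_coe]; exact ht'2)
      (fun e => ht't (congrArg Subtype.val e)) (fun u hu hu2 => by
        ext v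
        rw [hc, hc, (hHc _ ((hT' u).mp hu).1 (hord u hu2)).mp ((hT' u).mp hu)])
      (fun u hu v hv => by
        by_cases hu1 : u = 1
        · rw [hu1, mul_one, one_mul]
        · have hu2 : orderOf (u : G) = 2 := orderOf_two_iff.mpr
            ⟨h2 _ ((hT' u).mp hu).1, fun e => hu1 (Subtype.ext e)⟩
          have := (hc _ v).mp hv
          rw [← (hHc _ ((hT' u).mp hu).1 hu2).mp ((hT' u).mp hu)] at this
          exact Subtype.ext (mem_cent.mp this))).1
    have hyM : y ∈ M := odd_mem_of_index_two hMi (odd_of_mem_core hy)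
    refine hy1 (eq_one_of_odd_of_sq (odd_of_mem_core hy) (h2 y ?_))
    exact ((hT' _).mp (h3 (show (⟨y, hyM⟩ : M) ∈ cent ⟨t, hHM htH⟩ from
      (hc _ _).mpr (core_le t hy)))).1

end CfsgLib.CyclicNorm
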