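import Mathlib
import Cfsg.Prelude.Def_CaseTheorems
import Cfsg.Agent.Lib.Groups.SelfCentPrime
import Cfsg.Agent.Lib.Layer.Radical
import Cfsg.Agent.S0205

/-!
# Groups in which cyclic subgroups of even order have the normalizers of their subgroups

Every cyclic subgroup of even order containing the involution `t` is normal in the centralizer of
`t`; so the elements of odd order of that centralizer form a normal subgroup with a `2`-group
quotient.
-/

set_option autoImplicit false
set_option linter.unusedSectionVars false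
set_option linter.style.haveILetI false

namespace CfsgLib.CyclicNorm

variable {G : Type*} [Group G]

/-- Cyclic subgroups of even order have the normalizer of each nontrivial subgroup. -/
def Hyp (G : Type*) [Group G] : Prop :=
  ∀ X : Subgroup G, IsCyclic ↥X → Even (Nat.card ↥X) → ∀ Y : Subgroup G, Y ≤ X → Y ≠ ⊥ →
    Subgroup.normalizer (X : Set G) = Subgroup.normalizer (Y : Set G)

/-- No nontrivial solvable normal subgroup. -/
def Sem (G : Type*) [Group G] : Prop :=
  ∀ N : Subgroup G, N.Normal → Group.IsSolvable ↥N → N = ⊥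

/-- The centralizer of an element. -/
abbrev cent (t : G) : Subgroup G := Subgroup.centralizer ({t} : Set G)

theorem mem_cent {t g : G} : g ∈ cent t ↔ g * t = t * g :=
  Subgroup.mem_centralizer_singleton_iff

theorem self_mem_cent (t : G) : t ∈ cent t := mem_cent.mpr rfl

theorem mem_cent_symm {t g : G} (h : g ∈ cent t) : t ∈ cent g := mem_cent.mpr (mem_cent.mp h).symm

theorem conj_fix_of_mem_cent {t g : G} (h : g ∈ cent t) : g * t * g⁻¹ = t :=
  mul_inv_eq_iff_eq_mul.mpr (mem_cent.mp h)

theorem mem_cent_of_conj_fix {t g : G} (h : g * t * g⁻¹ = t) : g ∈ cent t :=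
  mem_cent.mpr (mul_inv_eq_iff_eq_mul.mp h)

theorem conj_mem_cent {t g c : G} (h : c ∈ cent t) : g * c * g⁻¹ ∈ cent (g * t * g⁻¹) := by
  rw [mem_cent] at h ⊢
  calc g * c * g⁻¹ * (g * t * g⁻¹) = g * (c * t) * g⁻¹ := by group
    _ = g * (t * c) * g⁻¹ := by rw [h]
    _ = g * t * g⁻¹ * (g * c * g⁻¹) := by group

theorem orderOf_two_iff {x : G} : orderOf x = 2 ↔ x * x = 1 ∧ x ≠ 1 := by
  rw [orderOf_eq_prime_iff, pow_two]

theorem normalizer_zpowers_of_involution {t : G} (ht : orderOf t = 2) :
    Subgroup.normalizer (Subgroup.zpowers t : Set G) = cent t := by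
  refine le_antisymm (fun g hg => ?_) ?_
  · have h1 := (Subgroup.mem_normalizer_iff.mp hg t).mp (Subgroup.mem_zpowers t)
    obtain ⟨k, hk⟩ := Subgroup.mem_zpowers_iff.mp h1
    obtain ⟨htt, ht1⟩ := orderOf_two_iff.mp ht
    rcases Int.even_or_odd k with ⟨m, rfl⟩ | ⟨m, rfl⟩
    · rw [← two_mul, zpow_mul, show t ^ (2 : ℤ) = 1 by rw [zpow_two, htt], one_zpow] at hk
      exact absurd (conj_eq_one_iff.mp hk.symm) ht1
    · rw [zpow_add, zpow_one, zpow_mul, show t ^ (2 : ℤ) = 1 by rw [zpow_two, htt], one_zpow,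
        one_mul] at hk
      exact mem_cent_of_conj_fix hk.symm
  · rw [cent, ← Subgroup.centralizer_closure, ← Subgroup.zpowers_eq_closure]
    exact Subgroup.centralizer_le_normalizer _

variable [Finite G]

/-- The involution in a cyclic group of even order. -/
theorem exists_pow_involution {x : G} (h : Even (orderOf x)) :
    ∃ m : ℕ, orderOf x = 2 * m ∧ orderOf (x ^ m) = 2 := by
  obtain ⟨m, hm⟩ := h
  have h0 := orderOf_pos x
  refine ⟨m, by omega, orderOf_two_iff.mpr ⟨?_, pow_ne_one_of_lt_orderOf (by omega) (by omega)⟩⟩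
  rw [← pow_add, ← hm, pow_orderOf_eq_one]

/-- The normalizer of every nontrivial subgroup of a cyclic group containing `t` is `C(t)`. -/
theorem normalizer_eq_cent (hH : Hyp G) {t x : G} (ht : orderOf t = 2)
    (htx : t ∈ Subgroup.zpowers x) {Y : Subgroup G} (hY : Y ≤ Subgroup.zpowers x) (hY1 : Y ≠ ⊥) :
    Subgroup.normalizer (Y : Set G) = cent t := by
  have heven : Even (Nat.card (Subgroup.zpowers x)) := by
    have := Subgroup.orderOf_dvd_natCard _ htx
    rw [ht] at this
    exact even_iff_two_dvd.mpr this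
  rw [← hH _ inferInstance heven Y hY hY1,
    hH _ inferInstance heven (Subgroup.zpowers t) (Subgroup.zpowers_le.mpr htx) ?_,
    normalizer_zpowers_of_involution ht]
  exact fun h => (orderOf_two_iff.mp ht).2 (Subgroup.zpowers_eq_bot.mp h)

/-- `⟨x⟩` is normal in `C(x^m)` when `x^m` is an involution. -/
theorem cent_normalizes (hH : Hyp G) {t x : G} (ht : orderOf t = 2)
    (htx : t ∈ Subgroup.zpowers x) : cent t ≤ Subgroup.normalizer (Subgroup.zpowers x : Set G) := by
  refine (normalizer_eq_cent hH ht htx le_rfl ?_).ge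
  intro h
  rw [h, Subgroup.mem_bot] at htx
  exact (orderOf_two_iff.mp ht).2 htx

theorem eq_one_of_odd_of_pow_two {y : G} (ho : Odd (orderOf y)) {k : ℕ} (h : y ^ 2 ^ k = 1) :
    y = 1 := by
  have h1 := pow_gcd_eq_one.mpr ⟨h, pow_orderOf_eq_one y⟩
  rwa [((Nat.coprime_two_left.mpr ho).pow_left k).gcd_eq_one, pow_one] at h1

theorem eq_one_of_odd_of_sq {y : G} (ho : Odd (orderOf y)) (h : y * y = 1) : y = 1 :=
  eq_one_of_odd_of_pow_two ho (k := 1) (by rw [pow_one, pow_two, h])

/-- An element of odd order commuting with `t` has normalizer `C(t)`. -/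
theorem normalizer_odd (hH : Hyp G) {t y : G} (ht : orderOf t = 2) (hy : y ∈ cent t)
    (ho : Odd (orderOf y)) (hy1 : y ≠ 1) :
    Subgroup.normalizer (Subgroup.zpowers y : Set G) = cent t := by
  have hc : Commute t y := (mem_cent.mp hy).symm
  have hcop : Nat.Coprime (orderOf t) (orderOf y) := by
    rw [ht]; exact Nat.coprime_two_left.mpr ho
  have key : ∀ a b : G, Commute a b → Nat.Coprime (orderOf a) (orderOf b) →
      a ∈ Subgroup.zpowers (a * b) := by
    intro a b hab hco
    obtain ⟨k, hk⟩ : ∃ k : ℕ, (a ^ orderOf b) ^ k = a :=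
      exists_pow_eq_self_of_coprime hco.symm
    refine ⟨((orderOf b * k : ℕ) : ℤ), ?_⟩
    show (a * b) ^ ((orderOf b * k : ℕ) : ℤ) = a
    rw [zpow_natCast, hab.mul_pow, pow_mul, hk, pow_mul b, pow_orderOf_eq_one, one_pow, mul_one]
  refine normalizer_eq_cent hH ht (key t y hc hcop) (Subgroup.zpowers_le.mpr ?_) ?_
  · rw [hc.eq]; exact key y t hc.symm hcop.symm
  · exact fun h => hy1 (Subgroup.zpowers_eq_bot.mp h)

theorem cent_normalizes_odd (hH : Hyp G) {t y : G} (ht : orderOf t = 2) (hy : y ∈ cent t)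
    (ho : Odd (orderOf y)) : cent t ≤ Subgroup.normalizer (Subgroup.zpowers y : Set G) := by
  by_cases hy1 : y = 1
  · subst hy1
    rw [Subgroup.zpowers_one_eq_bot]
    exact le_top.trans_eq (Subgroup.normalizer_eq_top (H := (⊥ : Subgroup G))).symm
  · exact (normalizer_odd hH ht hy ho hy1).ge

/-- An involution centralizing an element of odd order of `C(t)` has the same centralizer. -/
theorem cent_eq_of_commute (hH : Hyp G) {t s y : G} (ht : orderOf t = 2) (hs : orderOf s = 2)
    (hy : y ∈ cent t) (ho : Odd (orderOf y)) (hy1 : y ≠ 1) (hys : y ∈ cent s) :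
    cent s = cent t :=
  (normalizer_odd hH hs hys ho hy1).symm.trans (normalizer_odd hH ht hy ho hy1)

/-- The elements of odd order of `C(t)`. -/
def core (t : G) : Subgroup G := (Cfsg.oddCore ↥(cent t)).map (cent t).subtype

theorem core_le (t : G) : core t ≤ cent t := Subgroup.map_subtype_le _

theorem core_odd (t : G) : Odd (Nat.card (core t)) := by
  rw [core, ← Nat.card_congr ((Cfsg.oddCore ↥(cent t)).equivMapOfInjective (cent t).subtype
    (cent t).subtype_injective).toEquiv]
  exact Nat.coprime_two_right.mp (SelfCent.pPrimeCore_coprime 2)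

theorem odd_of_mem_core {t y : G} (hy : y ∈ core t) : Odd (orderOf y) :=
  (core_odd t).of_dvd_nat (Subgroup.orderOf_dvd_natCard _ hy)

theorem mem_core (hH : Hyp G) {t y : G} (ht : orderOf t = 2) (hy : y ∈ cent t)
    (ho : Odd (orderOf y)) : y ∈ core t := by
  refine ⟨⟨y, hy⟩, SelfCent.le_pPrimeCore (N := Subgroup.zpowers (⟨y, hy⟩ : cent t)) ⟨?_⟩ ?_
    (Subgroup.mem_zpowers _), rfl⟩
  · rintro x ⟨k, rfl⟩ g
    obtain ⟨j, hj⟩ := (Subgroup.mem_normalizer_iff.mp (cent_normalizes_odd hH ht hy ho g.2)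
      (y ^ k)).mp ⟨k, rfl⟩
    exact ⟨j, Subtype.ext (by simpa using hj)⟩
  · rw [Nat.card_zpowers, Subgroup.orderOf_mk]
    exact Nat.coprime_two_right.mpr ho

theorem conj_mem_core {t g y : G} (hg : g ∈ cent t) (hy : y ∈ core t) : g * y * g⁻¹ ∈ core t := by
  obtain ⟨a, ha, rfl⟩ := hy
  exact ⟨⟨g, hg⟩ * a * ⟨g, hg⟩⁻¹,
    (SelfCent.pPrimeCore_normal' (G := cent t) 2).conj_mem a ha _, rfl⟩

theorem eq_one_of_mem_core_of_two {t x : G} (hx : x ∈ core t) {k : ℕ} (h : x ^ 2 ^ k = 1) :
    x = 1 := eq_one_of_odd_of_pow_two (odd_of_mem_core hx) h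

instance core_normal (t : G) : ((core t).subgroupOf (cent t)).Normal :=
  ⟨fun a ha g => Subgroup.mem_subgroupOf.mpr (by
    simpa using conj_mem_core g.2 (Subgroup.mem_subgroupOf.mp ha))⟩

/-- The quotient of `C(t)` by its elements of odd order is a `2`-group. -/
theorem quotient_core (hH : Hyp G) {t : G} (ht : orderOf t = 2) :
    IsPGroup 2 (↥(cent t) ⧸ (core t).subgroupOf (cent t)) := by
  haveI := Fact.mk Nat.prime_two
  intro q
  obtain ⟨x, rfl⟩ := QuotientGroup.mk_surjective q
  obtain ⟨k, m, hm, hkm⟩ := Nat.exists_eq_two_pow_mul_odd (orderOf_pos (x : G)).ne'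
  refine ⟨k, ?_⟩
  rw [← QuotientGroup.mk_pow, QuotientGroup.eq_one_iff, Subgroup.mem_subgroupOf,
    SubmonoidClass.coe_pow]
  refine mem_core hH ht ((cent t).pow_mem x.2 _) ?_
  rw [orderOf_pow' _ (by positivity), hkm, Nat.gcd_mul_right_left,
    Nat.mul_div_cancel_left _ (by positivity)]
  exact hm

theorem isSolvable_cent (hH : Hyp G) {t : G} (ht : orderOf t = 2) :
    Group.IsSolvable ↥(cent t) := by
  haveI := Fact.mk Nat.prime_two
  haveI : Group.IsSolvable ↥((core t).subgroupOf (cent t)) := Cfsg.Agent.S0205.result (by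
    rw [Nat.card_congr (Subgroup.subgroupOfEquivOfLe (core_le t)).toEquiv]; exact core_odd t)
  haveI : Group.IsSolvable (↥(cent t) ⧸ (core t).subgroupOf (cent t)) := by
    haveI := (quotient_core hH ht).isNilpotent
    infer_instance
  exact Group.isSolvable_of_ker_le_range ((core t).subgroupOf (cent t)).subtype
    (QuotientGroup.mk' ((core t).subgroupOf (cent t))) (by rw [QuotientGroup.ker_mk', Subgroup.range_subtype])

/-- A Sylow `2`-subgroup centralizing `t` complements the elements of odd order. -/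
theorem cent_decomp (hH : Hyp G) {t g : G} (ht : orderOf t = 2) (S : Sylow 2 G)
    (hS : (S : Subgroup G) ≤ cent t) (hg : g ∈ cent t) :
    ∃ k ∈ core t, ∃ s ∈ (S : Subgroup G), k * s = g := by
  haveI := Fact.mk Nat.prime_two
  set N := (core t).subgroupOf (cent t) with hN
  have hsup : N ⊔ (S : Subgroup G).subgroupOf (cent t) = ⊤ := by
    rw [← Subgroup.index_eq_one]
    obtain ⟨k, hk⟩ := IsPGroup.iff_card.mp (quotient_core hH ht)
    have h1 : (N ⊔ (S : Subgroup G).subgroupOf (cent t)).index ∣ 2 ^ k :=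
      hk ▸ (Subgroup.index_dvd_of_le le_sup_left).trans (dvd_of_eq rfl)
    have h2 : (N ⊔ (S : Subgroup G).subgroupOf (cent t)).index ∣ (S : Subgroup G).index :=
      (Subgroup.index_dvd_of_le le_sup_right).trans
        ⟨(cent t).index, (Subgroup.relIndex_mul_index hS).symm⟩
    exact Nat.eq_one_of_dvd_coprimes
      ((Nat.prime_two.coprime_iff_not_dvd.mpr S.not_dvd_index).pow_left k) h1 h2
  have hm : (⟨g, hg⟩ : cent t) ∈ N ⊔ (S : Subgroup G).subgroupOf (cent t) :=
    hsup ▸ Subgroup.mem_top _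
  rw [Subgroup.mem_sup_of_normal_left] at hm
  obtain ⟨a, ha, b, hb, hab⟩ := hm
  exact ⟨a, ha, b, hb, congrArg Subtype.val hab⟩

theorem eq_bot_of_odd_normal (hsem : Sem G) {N : Subgroup G} (hN : N.Normal)
    (ho : Odd (Nat.card N)) : N = ⊥ :=
  hsem N hN (Cfsg.Agent.S0205.result ho)

theorem exists_involution_mem (hsem : Sem G) {N : Subgroup G} (hN : N.Normal) (hne : N ≠ ⊥) :
    ∃ i ∈ N, orderOf i = 2 := by
  haveI := Fact.mk Nat.prime_two
  have h2 : 2 ∣ Nat.card N := by
    rcases Nat.even_or_odd (Nat.card N) with h | h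
    · exact even_iff_two_dvd.mp h
    · exact absurd (eq_bot_of_odd_normal hsem hN h) hne
  obtain ⟨i, hi⟩ := exists_prime_orderOf_dvd_card' (G := N) 2 h2
  exact ⟨i, i.2, by rw [Subgroup.orderOf_coe, hi]⟩

theorem not_isSolvable [Nontrivial G] (hsem : Sem G) : ¬ Group.IsSolvable G := fun h => by
  haveI := h
  have : (⊤ : Subgroup G) = ⊥ := hsem ⊤ inferInstance inferInstance
  exact top_ne_bot this

theorem even_card [Nontrivial G] (hsem : Sem G) : 2 ∣ Nat.card G := by
  obtain ⟨i, -, hi⟩ := exists_involution_mem hsem (N := ⊤) inferInstance top_ne_bot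
  exact hi ▸ orderOf_dvd_natCard i

omit [Finite G] in
theorem Hyp.subgroup (hH : Hyp G) (N : Subgroup G) : Hyp ↥N := by
  intro X hX hev Y hYX hY1
  have e : ∀ Z : Subgroup N, ∀ g : N, g ∈ Subgroup.normalizer (Z : Set N) ↔
      (g : G) ∈ Subgroup.normalizer ((Z.map N.subtype : Subgroup G) : Set G) := by
    intro Z g
    rw [Subgroup.mem_normalizer_iff, Subgroup.mem_normalizer_iff]
    constructor
    · intro h x
      constructor
      · rintro ⟨z, hz, rfl⟩
        exact ⟨g * z * g⁻¹, (h z).mp hz, rfl⟩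
      · rintro ⟨z, hz, hzx⟩
        refine ⟨g⁻¹ * z * g, (h _).mpr (by simpa [mul_assoc] using hz), ?_⟩
        show ((g : G))⁻¹ * z * g = x
        rw [show (z : G) = g * x * (g : G)⁻¹ from hzx]; group
    · intro h z
      constructor
      · intro hz
        obtain ⟨w, hw, hwe⟩ := (h z).mp ⟨z, hz, rfl⟩
        exact (Subtype.ext hwe : w = g * z * g⁻¹) ▸ hw
      · intro hz
        obtain ⟨w, hw, hwe⟩ := (h z).mpr ⟨_, hz, rfl⟩
        exact (Subtype.ext hwe : w = z) ▸ hw
  haveI := hX
  have := hH (X.map N.subtype)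
    (isCyclic_of_surjective (X.equivMapOfInjective N.subtype N.subtype_injective).toMonoidHom
      (MulEquiv.surjective _))
    (by rwa [← Nat.card_congr (X.equivMapOfInjective N.subtype N.subtype_injective).toEquiv])
    (Y.map N.subtype) (Subgroup.map_mono hYX)
    (fun h => hY1 ((Subgroup.map_eq_bot_iff_of_injective _ N.subtype_injective).mp h))
  ext g
  rw [e, e, this]

theorem Sem.subgroup (hsem : Sem G) (N : Subgroup G) [N.Normal] : Sem ↥N := by
  intro M hM hsol
  haveI := hM
  haveI := hsol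
  have hR := hsem ((Cfsg.solvableRadical N).map N.subtype) inferInstance (by
    haveI := Layer.solvableRadical_isSolvable (G := N)
    exact Group.isSolvable_of_surjective
      (f := ((Cfsg.solvableRadical N).equivMapOfInjective N.subtype N.subtype_injective).toMonoidHom)
      (MulEquiv.surjective _))
  rw [Subgroup.map_eq_bot_iff_of_injective _ N.subtype_injective] at hR
  exact le_bot_iff.mp (hR ▸ Layer.le_solvableRadical hM hsol)

end CfsgLib.CyclicNorm
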