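import Cfsg.Agent.Lib.CyclicNorm.Basic
import Cfsg.Agent.Lib.Invol.StronglyEmbedded
import Cfsg.Agent.Lib.Zassenhaus.EvenAbelian
import Cfsg.Agent.S0338
import Cfsg.Agent.S0340
import Cfsg.Agent.S0346

/-!
# The case of a common centralizer

If all involutions of an abelian Sylow `2`-subgroup with at least two of them have one centralizer,
in which the Sylow subgroup is central, then the normalizer of the Sylow subgroup is strongly
embedded, the group acts on its cosets as a Zassenhaus group and is `PSL(2, 2^n)`.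
-/

set_option autoImplicit false
set_option linter.unusedSectionVars false
set_option linter.style.haveILetI false

namespace CfsgLib.CyclicNorm

open CfsgLib.Invol

variable {G : Type*} [Group G] [Finite G]

theorem orderOf_conj (g t : G) : orderOf (g * t * g⁻¹) = orderOf t := by
  show orderOf (MulAut.conj g t) = _
  exact MulEquiv.orderOf_eq _ _

/-- The Suzuki orders are not of the form `(c + 1) c (c - 1)`. -/
theorem suzuki_order_ne {j m : ℕ} (hm : 1 ≤ m) (hj : 1 ≤ j)
    (h : (2 ^ (2 * m + 1)) ^ 2 * ((2 ^ (2 * m + 1)) ^ 2 + 1) * (2 ^ (2 * m + 1) - 1) =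
      (2 ^ j + 1) * 2 ^ j * (2 ^ j - 1)) : False := by
  set Q := 2 ^ (2 * m + 1) with hQ
  have hQ8 : 8 ≤ Q := by
    rw [hQ, show 2 * m + 1 = 3 + (2 * m - 2) by omega, pow_add]
    have := Nat.two_pow_pos (2 * m - 2)
    omega
  set c := 2 ^ j with hc
  have hc2 : 2 ≤ c := Nat.le_self_pow (by omega) 2
  have hce : 2 ∣ c := dvd_pow_self 2 (by omega)
  have hQe : 2 ∣ Q := dvd_pow_self 2 (by omega)
  have hQ2e : 2 ∣ Q ^ 2 := dvd_pow hQe two_ne_zero
  have hQe2 : 2 ∣ Q ^ 2 := dvd_pow hQe two_ne_zero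
  have h1 : Nat.Coprime (Q ^ 2) ((c + 1) * (c - 1)) := by
    rw [hQ, ← pow_mul]
    refine Nat.Coprime.pow_left _ (Nat.coprime_two_left.mpr (Odd.mul ?_ ?_)) <;>
      (rw [Nat.odd_iff]; omega)
  have h2 : Nat.Coprime c ((Q ^ 2 + 1) * (Q - 1)) := by
    rw [hc]
    refine Nat.Coprime.pow_left _ (Nat.coprime_two_left.mpr (Odd.mul ?_ ?_)) <;>
      (rw [Nat.odd_iff]; omega)
  have e : Q ^ 2 * ((Q ^ 2 + 1) * (Q - 1)) = c * ((c + 1) * (c - 1)) := by
    rw [← mul_assoc, h]; ring
  have h3 : Q ^ 2 = c := Nat.dvd_antisymm (h1.dvd_of_dvd_mul_right (e ▸ Dvd.intro _ rfl))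
    (h2.dvd_of_dvd_mul_right (e.symm ▸ Dvd.intro _ rfl))
  rw [← h3] at e
  have h4 := Nat.eq_of_mul_eq_mul_left (by positivity) e
  have h5 := Nat.eq_of_mul_eq_mul_left (by positivity) h4
  have h6 : 8 * Q ≤ Q ^ 2 := by rw [pow_two]; exact Nat.mul_le_mul_right Q hQ8
  omega

/-- A common centralizer of the involutions of an abelian Sylow subgroup. -/
theorem case_common (hH : Hyp G) (hsem : Sem G) (S : Sylow 2 G) {z z' : G}
    (hzS : z ∈ (S : Subgroup G)) (hz'S : z' ∈ (S : Subgroup G)) (hz : orderOf z = 2)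
    (hz' : orderOf z' = 2) (hne : z' ≠ z)
    (hall : ∀ t ∈ (S : Subgroup G), orderOf t = 2 → cent t = cent z)
    (hcen : ∀ s ∈ (S : Subgroup G), ∀ c ∈ cent z, c * s = s * c) :
    cent z ≤ (S : Subgroup G) ∧ (∀ s ∈ (S : Subgroup G), s * s = 1) ∧
      ∃ (F : Type) (_ : Field F) (_ : Fintype F),
        Nonempty (G ≃* Matrix.ProjectiveSpecialLinearGroup (Fin 2) F) := by
  classical
  haveI := Fact.mk Nat.prime_two
  set C := cent z with hC
  set M := Subgroup.normalizer ((S : Subgroup G) : Set G) with hM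
  obtain ⟨hzz, hz1⟩ := orderOf_two_iff.mp hz
  have hSM : (S : Subgroup G) ≤ M := Subgroup.le_normalizer
  have hSC : (S : Subgroup G) ≤ C := fun s hs => mem_cent.mpr (hcen s hs z (self_mem_cent z)).symm
  have hCM : C ≤ M := fun c hc => Subgroup.mem_normalizer_iff.mpr fun s =>
    ⟨fun hs => by rw [hcen s hs c hc, mul_inv_cancel_right]; exact hs, fun hs => by
      have h1 := hcen _ hs c⁻¹ (C.inv_mem hc)
      have h2 : s = c * s * c⁻¹ := by
        calc s = c⁻¹ * (c * s * c⁻¹) * c := by group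
          _ = c * s * c⁻¹ := by rw [h1]; group
      rwa [h2]⟩
  -- `2`-elements of `M` lie in `S`
  have hMS : ∀ g ∈ M, (∃ k : ℕ, g ^ 2 ^ k = 1) → g ∈ (S : Subgroup G) := by
    intro g hg hk
    have hgp : IsPGroup 2 (Subgroup.zpowers g) := by
      rintro ⟨x, i, rfl⟩
      obtain ⟨k, hk⟩ := hk
      refine ⟨k, Subtype.ext ?_⟩
      show (g ^ i) ^ 2 ^ k = 1
      rw [← zpow_natCast, ← zpow_mul, mul_comm, zpow_mul, zpow_natCast, hk, one_zpow]
    have hsup : IsPGroup 2 ↥(Subgroup.zpowers g ⊔ (S : Subgroup G)) :=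
      hgp.to_sup_of_normal_right' S.2 (Subgroup.zpowers_le.mpr hg)
    rw [← S.3 hsup le_sup_right]
    exact Subgroup.mem_sup_left (Subgroup.mem_zpowers g)
  have hMinv : ∀ i ∈ M, orderOf i = 2 → i ∈ (S : Subgroup G) := fun i hi h =>
    hMS i hi ⟨1, by rw [pow_one, ← h, pow_orderOf_eq_one]⟩
  have hCg : ∀ g : G, (∀ c ∈ C, g⁻¹ * c * g ∈ C) → g ∈ M := by
    intro g h
    have hg' : g⁻¹ ∈ M := by
      refine mem_normalizer_of_le (fun s hs => ?_)
      obtain ⟨k, hk⟩ := S.2 ⟨s, hs⟩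
      refine hMS _ (hCM ?_) ⟨k, ?_⟩
      · rw [inv_inv]; exact h s (hSC hs)
      · rw [conj_pow, show s ^ 2 ^ k = 1 by simpa using congrArg Subtype.val hk, mul_one,
          mul_inv_cancel]
    simpa using M.inv_mem hg'
  have hMtop : M ≠ ⊤ := fun h => by
    haveI : (S : Subgroup G).Normal := Subgroup.normalizer_eq_top_iff.mp h
    have h1 := hsem (S : Subgroup G) inferInstance (by haveI := S.2.isNilpotent; infer_instance)
    exact hz1 (Subgroup.mem_bot.mp (h1 ▸ hzS))
  have hSE : Cfsg.IsStronglyEmbedded M := by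
    refine ⟨hMtop, even_iff_two_dvd.mpr (hz ▸ M.orderOf_dvd_natCard (hSM hzS)), fun g hg => ?_⟩
    rw [← Nat.not_even_iff_odd, even_iff_two_dvd]
    intro h2
    obtain ⟨i, hi⟩ := exists_prime_orderOf_dvd_card' (G := ↥(M ⊓ M.map (MulAut.conj g).toMonoidHom)) 2 h2
    rw [← Subgroup.orderOf_coe] at hi
    obtain ⟨j, hj, hji⟩ := (Subgroup.mem_inf.mp i.2).2
    have hji' : g * j * g⁻¹ = (i : G) := hji
    have hjo : orderOf j = 2 := by rw [← orderOf_conj g j, hji', hi]
    have h3 := hall _ (hMinv _ (Subgroup.mem_inf.mp i.2).1 hi) hi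
    have h4 := hall j (hMinv j hj hjo) hjo
    refine hg (hCg g fun c hc => ?_)
    rw [← h3, ← hji'] at hc
    rw [← h4]
    have h5 := conj_mem_cent (g := g⁻¹) hc
    rw [show g⁻¹ * (g * j * g⁻¹) * g⁻¹⁻¹ = j by group, inv_inv] at h5
    exact h5
  obtain ⟨u₀, hu₀, hu₀M⟩ := strongly_exists_invol_not_mem hSE
  -- the action on the cosets
  let Ω := G ⧸ M
  set o : Ω := ((1 : G) : Ω) with ho
  have hoM : ∀ g : G, g • o = o ↔ g ∈ M := fun g => by
    show ((g * 1 : G) : Ω) = ((1 : G) : Ω) ↔ _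
    rw [QuotientGroup.eq, mul_one, mul_one, inv_mem_iff]
  have hto : ∀ a : Ω, ∃ g : G, g • a = o := fun a => by
    obtain ⟨g, rfl⟩ := QuotientGroup.mk_surjective a
    exact ⟨g⁻¹, by show ((g⁻¹ * g : G) : Ω) = _; rw [inv_mul_cancel]⟩
  have hback : ∀ {i : G} {a b : Ω}, orderOf i = 2 → i • a = b → i • b = a := by
    intro i a b hi hiy
    rw [← hiy, ← mul_smul, (orderOf_two_iff.mp hi).1, one_smul]
  set k := Nat.card {t : G // orderOf t = 2 ∧ t ∈ M} with hk
  have hk1 : 1 < k := Finite.one_lt_card_iff_nontrivial.mpr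
    ⟨⟨z, hz, hSM hzS⟩, ⟨z', hz', hSM hz'S⟩, fun e => hne (congrArg Subtype.val e).symm⟩
  have hsw : ∀ a b : Ω, a ≠ b → ∃ i : G, orderOf i = 2 ∧ i • a = b := by
    intro a b hab
    have : Nonempty {i : G // orderOf i = 2 ∧ i • a = b} := by
      refine (Nat.card_pos_iff.mp ?_).1
      rw [strongly_card_swappers hSE a b hab, ← hk]; omega
    obtain ⟨i, hi⟩ := this
    exact ⟨i, hi⟩
  let Dy : Ω → Subgroup G := fun y => M ⊓ MulAction.stabilizer G y
  have hDy : ∀ y d, d ∈ Dy y ↔ d ∈ M ∧ d • y = y := fun y d => Iff.rfl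
  have hnotM : ∀ {i : G} {y : Ω}, y ≠ o → i • o = y → i ∉ M := fun hy hiy h =>
    hy (hiy.symm.trans ((hoM _).mpr h))
  have hDeq : ∀ y, y ≠ o → ∀ i : G, orderOf i = 2 → i • o = y →
      Dy y = M ⊓ M.map (MulAut.conj i).toMonoidHom := by
    intro y _ i hi hiy
    ext d
    rw [hDy, Subgroup.mem_inf]
    refine and_congr_right fun _ => ⟨fun h => ⟨i⁻¹ * d * i, ?_, ?_⟩, ?_⟩
    · refine (hoM _).mp ?_
      rw [mul_smul, mul_smul, hiy, h, ← hiy, inv_smul_smul]
    · show i * (i⁻¹ * d * i) * i⁻¹ = d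
      group
    · rintro ⟨e, he, rfl⟩
      show (i * e * i⁻¹) • y = y
      rw [← hiy, ← mul_smul, inv_mul_cancel_right, mul_smul, (hoM e).mpr he]
  have hDodd : ∀ y, y ≠ o → ∀ d ∈ Dy y, Odd (orderOf d) := by
    intro y hy d hd
    obtain ⟨i, hi, hiy⟩ := hsw o y hy.symm
    rw [hDeq y hy i hi hiy] at hd
    exact (hSE.2.2 i (hnotM hy hiy)).of_dvd_nat (Subgroup.orderOf_dvd_natCard _ hd)
  -- `C` meets no stabilizer of two points
  have hDC : ∀ y, y ≠ o → ∀ d ∈ Dy y, d ∈ C → d = 1 := by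
    intro y hy d hd hdC
    obtain ⟨i, hi, hiy⟩ := hsw o y hy.symm
    have hinv : i⁻¹ = i := inv_eq_of_mul_eq_one_right (orderOf_two_iff.mp hi).1
    set C' := C.map (MulAut.conj i).toMonoidHom with hC'
    have hzero : ∀ c ∈ C, c ∈ C' → c = 1 := by
      intro c hc hc'
      obtain ⟨e, he, hec⟩ := hc'
      have hec' : i * e * i⁻¹ = c := hec
      have key : cent z = cent (i * z * i⁻¹) → c = 1 := by
        intro h
        refine absurd (hCg i fun x hx => ?_) (hnotM hy hiy)
        rw [show C = cent (i * z * i⁻¹) from h] at hx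
        have := conj_mem_cent (g := i⁻¹) hx
        rwa [show i⁻¹ * (i * z * i⁻¹) * i⁻¹⁻¹ = z by group, inv_inv] at this
      rcases Nat.even_or_odd (orderOf c) with hev | hodd
      · obtain ⟨m, -, hm⟩ := exists_pow_involution hev
        have h1 : c ^ m ∈ (S : Subgroup G) := hMinv _ (M.pow_mem (hCM hc) m) hm
        have h2 : e ^ m ∈ (S : Subgroup G) := by
          refine hMinv _ (M.pow_mem (hCM he) m) ?_
          rw [← orderOf_conj i, ← conj_pow, hec', hm]
        have h3 := hall _ h2 (by rw [← orderOf_conj i, ← conj_pow, hec', hm])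
        refine key ((hall _ h1 hm).symm.trans ?_)
        rw [← hec', conj_pow]
        ext x
        constructor
        · intro hx
          have hx' := conj_mem_cent (g := i⁻¹) hx
          rw [show i⁻¹ * (i * e ^ m * i⁻¹) * i⁻¹⁻¹ = e ^ m by group, h3] at hx'
          have := conj_mem_cent (g := i) hx'
          simpa [mul_assoc] using this
        · intro hx
          have hx' := conj_mem_cent (g := i⁻¹) hx
          rw [show i⁻¹ * (i * z * i⁻¹) * i⁻¹⁻¹ = z by group,
            show cent z = cent (e ^ m) from h3.symm] at hx'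
          have := conj_mem_cent (g := i) hx'
          simpa [mul_assoc] using this
      · by_contra hc1
        refine hc1 (key ?_)
        have hci : c ∈ cent (i * z * i⁻¹) := hec' ▸ conj_mem_cent he
        exact (normalizer_odd hH hz hc hodd hc1).symm.trans
          (normalizer_odd hH (by rw [orderOf_conj]; exact hz) hci hodd hc1)
    have he : i * d * i⁻¹ ∈ Dy y := by
      refine (hDy _ _).mpr ⟨(hoM _).mp ?_, ?_⟩
      · rw [hinv, mul_smul, mul_smul, hiy, ((hDy _ _).mp hd).2, hback hi hiy]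
      · rw [hinv, mul_smul, mul_smul, hback hi hiy, (hoM d).mpr ((hDy _ _).mp hd).1, hiy]
    set e := i * d * i⁻¹ with hedef
    have heC' : e ∈ C' := ⟨d, hdC, rfl⟩
    have hnormC : ∀ m ∈ M, ∀ c ∈ C, m * c * m⁻¹ ∈ C := by
      intro m hm c hc
      have h1 : m * z * m⁻¹ ∈ (S : Subgroup G) := (Subgroup.mem_normalizer_iff.mp hm z).mp hzS
      have h2 := conj_mem_cent (g := m) hc
      rwa [hall _ h1 (by rw [orderOf_conj]; exact hz)] at h2
    have hcom : d * e * d⁻¹ * e⁻¹ = 1 := by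
      refine hzero _ ?_ ?_
      · rw [show d * e * d⁻¹ * e⁻¹ = d * (e * d⁻¹ * e⁻¹) by group]
        exact C.mul_mem hdC (hnormC e ((hDy _ _).mp he).1 _ (C.inv_mem hdC))
      · refine C'.mul_mem ⟨(i⁻¹ * d * i) * d * (i⁻¹ * d * i)⁻¹, hnormC _ ?_ _ hdC, ?_⟩
          (C'.inv_mem heC')
        · refine (hoM _).mp ?_
          rw [mul_smul, mul_smul, hiy, ((hDy _ _).mp hd).2, ← hiy, inv_smul_smul]
        · show i * ((i⁻¹ * d * i) * d * (i⁻¹ * d * i)⁻¹) * i⁻¹ = d * e * d⁻¹
          rw [hedef]; group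
    by_contra hd1
    have heC : e ∈ C := by
      refine (normalizer_odd hH hz hdC (hDodd y hy d hd) hd1).le ?_
      refine mem_normalizer_of_le fun a ha => ?_
      obtain ⟨n, rfl⟩ := ha
      refine ⟨n, ?_⟩
      have h1 : e * d = d * e := by
        rw [mul_inv_eq_one, mul_inv_eq_iff_eq_mul] at hcom
        exact hcom.symm
      show d ^ n = e * d ^ n * e⁻¹
      rw [((Commute.zpow_right (show Commute e d from h1) n)).eq, mul_inv_cancel_right]
    have := hzero e heC heC'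
    exact hd1 (conj_eq_one_iff.mp this)
  -- the stabilizers are regular on the involutions of `M`
  have hDcard : ∀ y, y ≠ o → Nat.card (Dy y) = k := by
    intro y hy
    obtain ⟨i, hi, hiy⟩ := hsw o y hy.symm
    rw [hk]
    refine Nat.card_congr (Equiv.ofBijective (fun d : Dy y => (⟨(d : G) * z * (d : G)⁻¹,
      by rw [orderOf_conj]; exact hz,
      M.mul_mem (M.mul_mem d.2.1 (hSM hzS)) (M.inv_mem d.2.1)⟩ :
      {t : G // orderOf t = 2 ∧ t ∈ M})) ⟨?_, ?_⟩)
    · intro a b e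
      have e' : (a : G) * z * (a : G)⁻¹ = (b : G) * z * (b : G)⁻¹ := congrArg Subtype.val e
      refine Subtype.ext (inv_mul_eq_one.mp (hDC y hy _
        ((Dy y).mul_mem ((Dy y).inv_mem a.2) b.2) (mem_cent_of_conj_fix ?_)))
      calc (a : G)⁻¹ * b * z * ((a : G)⁻¹ * b)⁻¹ = (a : G)⁻¹ * ((b : G) * z * (b : G)⁻¹) * a := by group
        _ = (a : G)⁻¹ * ((a : G) * z * (a : G)⁻¹) * a := by rw [e']
        _ = z := by group
    · rintro ⟨t, ht, htM⟩
      obtain ⟨d, hd, hdt⟩ := strongly_inter_transitive hSE hi (hnotM hy hiy) hz (hSM hzS) ht htM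
      rw [← hDeq y hy i hi hiy] at hd
      exact ⟨⟨d, hd⟩, Subtype.ext hdt⟩
  have hinvert : ∀ y, y ≠ o → ∀ i : G, orderOf i = 2 → i • o = y →
      ∀ d ∈ Dy y, i * d * i⁻¹ = d⁻¹ := by
    intro y hy i hi hiy d hd
    let f : {j : G // orderOf j = 2 ∧ j • o = y} → Dy y := fun j =>
      ⟨i * j.1, (hDy _ _).mpr ⟨(hoM _).mp (by rw [mul_smul, j.2.2, hback hi hiy]),
        by rw [mul_smul, hback j.2.1 j.2.2, hiy]⟩⟩
    have hf : Function.Injective f := fun a b e =>
      Subtype.ext (mul_left_cancel (congrArg Subtype.val e :))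
    have hc : Nat.card {j : G // orderOf j = 2 ∧ j • o = y} = Nat.card (Dy y) := by
      rw [strongly_card_swappers hSE o y hy.symm, hDcard y hy]
    obtain ⟨j, hj⟩ := ((Nat.bijective_iff_injective_and_card f).mpr ⟨hf, hc⟩).2 ⟨d, hd⟩
    have hjd : i * j.1 = d := congrArg Subtype.val hj
    have e1 := inv_eq_of_mul_eq_one_right (orderOf_two_iff.mp hi).1
    have e2 := inv_eq_of_mul_eq_one_right (orderOf_two_iff.mp j.2.1).1
    rw [← hjd, mul_inv_rev, e2, e1, ← mul_assoc i i, (orderOf_two_iff.mp hi).1, one_mul]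
  have hpair : ∀ a b : Ω, a ≠ b → ∀ i : G, orderOf i = 2 → i • a = b → ∀ d : G,
      d • a = a → d • b = b → i * d * i⁻¹ = d⁻¹ := by
    intro a b hab i hi hiab d hda hdb
    obtain ⟨g, hg⟩ := hto a
    have hgb : g • b ≠ o := fun e => hab (MulAction.injective g (hg.trans e.symm))
    have h := hinvert _ hgb (g * i * g⁻¹) (by rw [orderOf_conj]; exact hi)
      (by rw [← hg, ← mul_smul, inv_mul_cancel_right, mul_smul, hiab]) (g * d * g⁻¹)
      ((hDy _ _).mpr ⟨(hoM _).mp (by rw [← hg, ← mul_smul, inv_mul_cancel_right, mul_smul, hda]),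
        by rw [← mul_smul, inv_mul_cancel_right, mul_smul, hdb]⟩)
    refine mul_left_cancel (a := g) (mul_right_cancel (b := g⁻¹) ?_)
    calc g * (i * d * i⁻¹) * g⁻¹ = g * i * g⁻¹ * (g * d * g⁻¹) * (g * i * g⁻¹)⁻¹ := by group
      _ = (g * d * g⁻¹)⁻¹ := h
      _ = g * d⁻¹ * g⁻¹ := by group
  -- only two fixed points
  have huniq : ∀ y, y ≠ o → ∀ d ∈ Dy y, d ≠ 1 → ∀ w : Ω, d • w = w → w = o ∨ w = y := by
    intro y hy d hd hd1 w hdw
    by_contra hw
    push Not at hw
    obtain ⟨hdM, hdy⟩ := (hDy _ _).mp hd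
    have hdo := (hoM d).mpr hdM
    have hdodd := hDodd y hy d hd
    obtain ⟨u, hu, huy⟩ := hsw o y hy.symm
    have hud := hinvert y hy u hu huy d hd
    have huinv : u⁻¹ = u := inv_eq_of_mul_eq_one_right (orderOf_two_iff.mp hu).1
    -- the centralizer of `d` has odd order
    have hCd : Odd (Nat.card (cent d)) := by
      rw [← Nat.not_even_iff_odd, even_iff_two_dvd]
      intro h2
      obtain ⟨j, hj⟩ := exists_prime_orderOf_dvd_card' (G := cent d) 2 h2
      rw [← Subgroup.orderOf_coe] at hj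
      obtain ⟨g, hg⟩ := isConj_iff.mp (strongly_isConj hSE hz hj)
      have hN := normalizer_odd hH hj (mem_cent_symm j.2) hdodd hd1
      have huN : u ∈ cent (j : G) := by
        rw [← hN]
        refine mem_normalizer_of_le fun a ha => ?_
        obtain ⟨n, rfl⟩ := ha
        exact ⟨-n, by simp only; rw [← conj_zpow, hud, inv_zpow, zpow_neg]⟩
      have hdg : g⁻¹ * d * g ∈ C := by
        have := conj_mem_cent (g := g⁻¹) (mem_cent_symm j.2)
        rwa [← hg, show g⁻¹ * (g * z * g⁻¹) * g⁻¹⁻¹ = z by group, inv_inv] at this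
      have hug : g⁻¹ * u * g ∈ (S : Subgroup G) := by
        have := conj_mem_cent (g := g⁻¹) huN
        rw [← hg, show g⁻¹ * (g * z * g⁻¹) * g⁻¹⁻¹ = z by group, inv_inv] at this
        exact hMinv _ (hCM this) (by rw [← orderOf_conj g]; simpa [mul_assoc] using hu)
      have hc := hcen _ hug _ hdg
      have hud' : u * d = d * u := by
        calc u * d = g * (g⁻¹ * u * g * (g⁻¹ * d * g)) * g⁻¹ := by group
          _ = g * (g⁻¹ * d * g * (g⁻¹ * u * g)) * g⁻¹ := by rw [hc]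
          _ = d * u := by group
      rw [hud', mul_inv_cancel_right] at hud
      refine hd1 (eq_one_of_odd_of_sq hdodd ?_)
      nth_rewrite 1 [hud]
      exact inv_mul_cancel d
    -- it is transitive on the fixed points
    set F : Set Ω := {x | d • x = x} with hF
    have hcomm : ∀ {i j : G}, i * d * i⁻¹ = d⁻¹ → j * d * j⁻¹ = d⁻¹ → j * i ∈ cent d := by
      intro i j hi hj
      refine mem_cent_of_conj_fix ?_
      calc j * i * d * (j * i)⁻¹ = j * (i * d * i⁻¹) * j⁻¹ := by group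
        _ = (j * d * j⁻¹)⁻¹ := by rw [hi]; group
        _ = d := by rw [hj, inv_inv]
    have horb : MulAction.orbit (cent d) o = F := by
      refine Set.Subset.antisymm ?_ fun x hx => ?_
      · rintro x ⟨⟨c, hc⟩, rfl⟩
        show d • c • o = c • o
        rw [← mul_smul, ← mem_cent.mp hc, mul_smul, hdo]
      · by_cases hxo : x = o
        · rw [hxo]; exact MulAction.mem_orbit_self o
        obtain ⟨p, hpF, hpo, hpx⟩ : ∃ p, d • p = p ∧ p ≠ o ∧ p ≠ x := by
          by_cases hxy : x = y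
          · exact ⟨w, hdw, hw.1, fun e => hw.2 (e.trans hxy)⟩
          · exact ⟨y, hdy, hy, Ne.symm hxy⟩
        obtain ⟨i, hi, hip⟩ := hsw o p hpo.symm
        obtain ⟨j, hj, hjx⟩ := hsw p x hpx
        refine ⟨⟨j * i, hcomm (hpair o p hpo.symm i hi hip d hdo hpF)
          (hpair p x hpx j hj hjx d hpF hx)⟩, ?_⟩
        show (j * i) • o = x
        rw [mul_smul, hip, hjx]
    have hFodd : Odd (Nat.card F) := by
      rw [← horb, Nat.card_coe_set_eq, ← MulAction.index_stabilizer]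
      exact hCd.of_dvd_nat (Subgroup.index_dvd_card _)
    -- an involution without fixed points on it
    have hmap : ∀ x : Ω, d • x = x → d • u • x = u • x := by
      intro x hx
      rw [← mul_smul]
      have : d * u = u * d⁻¹ := by
        calc d * u = (u * d⁻¹ * u⁻¹) * u := by
              rw [show u * d⁻¹ * u⁻¹ = (u * d * u⁻¹)⁻¹ by group, hud, inv_inv]
          _ = u * d⁻¹ := by group
      rw [this, mul_smul, show d⁻¹ • x = x by rw [inv_smul_eq_iff, hx]]
    have hfree : ∀ x : Ω, d • x = x → u • x ≠ x := by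
      intro x hx hux
      obtain ⟨g, hg⟩ := hto x
      have hu' : g * u * g⁻¹ ∈ (S : Subgroup G) := hMinv _
        ((hoM _).mp (by rw [← hg, ← mul_smul, inv_mul_cancel_right, mul_smul, hux]))
        (by rw [orderOf_conj]; exact hu)
      have hd' : g * d * g⁻¹ ∈ M :=
        (hoM _).mp (by rw [← hg, ← mul_smul, inv_mul_cancel_right, mul_smul, hx])
      have h1 : g * u * g⁻¹ * (g * d * g⁻¹ * (g * u * g⁻¹)⁻¹ * (g * d * g⁻¹)⁻¹) ∈ (S : Subgroup G) :=
        Subgroup.mul_mem _ hu' ((Subgroup.mem_normalizer_iff.mp hd' _).mp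
          (Subgroup.inv_mem _ hu'))
      rw [show g * u * g⁻¹ * (g * d * g⁻¹ * (g * u * g⁻¹)⁻¹ * (g * d * g⁻¹)⁻¹)
        = g * ((u * d * u⁻¹) * d⁻¹) * g⁻¹ by group, hud] at h1
      obtain ⟨n, hn⟩ := S.2 ⟨_, h1⟩
      have h2 : (d * d) ^ 2 ^ n = 1 := by
        have h3 := congrArg Subtype.val hn
        simp only [SubmonoidClass.coe_pow, OneMemClass.coe_one, conj_pow] at h3
        rw [conj_eq_one_iff, ← mul_inv_rev, inv_pow, inv_eq_one] at h3
        exact h3
      rw [← pow_two, ← pow_mul, ← pow_succ'] at h2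
      exact hd1 (eq_one_of_odd_of_pow_two hdodd h2)
    haveI := Fintype.ofFinite F
    let σ : Equiv.Perm F :=
      { toFun := fun x => ⟨u • x.1, hmap x.1 x.2⟩
        invFun := fun x => ⟨u • x.1, hmap x.1 x.2⟩
        left_inv := fun x => Subtype.ext (by
          show u • u • x.1 = x.1
          rw [← mul_smul, (orderOf_two_iff.mp hu).1, one_smul])
        right_inv := fun x => Subtype.ext (by
          show u • u • x.1 = x.1
          rw [← mul_smul, (orderOf_two_iff.mp hu).1, one_smul]) }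
    have hσ : σ ^ 2 = 1 := Equiv.ext fun x => Subtype.ext (by
      show u • u • x.1 = x.1
      rw [← mul_smul, (orderOf_two_iff.mp hu).1, one_smul])
    have hsupp : σ.support = Finset.univ := Finset.eq_univ_of_forall fun x =>
      Equiv.Perm.mem_support.mpr fun e => hfree x.1 x.2 (congrArg Subtype.val e)
    have h2 := Equiv.Perm.two_dvd_card_support hσ
    rw [hsupp, Finset.card_univ, ← Nat.card_eq_fintype_card] at h2
    exact Nat.not_even_iff_odd.mpr hFodd (even_iff_two_dvd.mpr h2)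
  -- `C` is regular on the other points
  obtain ⟨y₀, hy₀⟩ : ∃ y : Ω, y ≠ o := ⟨u₀ • o, fun e => hu₀M ((hoM u₀).mp e)⟩
  have hkeep : ∀ m ∈ M, ∀ y, y ≠ o → m • y ≠ o := by
    intro m hm y hy e
    refine hy (MulAction.injective m ?_)
    show m • y = m • o
    rw [(hoM m).mpr hm]; exact e
  have hMC : Nat.card M = Nat.card C * k := by
    rw [← hDcard y₀ hy₀, ← Nat.card_prod]
    refine (Nat.card_congr (Equiv.ofBijective (fun p : C × Dy y₀ =>
      (⟨(p.2 : G) * p.1, M.mul_mem p.2.2.1 (hCM p.1.2)⟩ : M)) ⟨?_, ?_⟩)).symm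
    · rintro ⟨c, d⟩ ⟨c', d'⟩ e
      have e' : (d : G) * c = (d' : G) * c' := congrArg Subtype.val e
      have h1 : (d' : G)⁻¹ * d = c' * (c : G)⁻¹ := by
        calc (d' : G)⁻¹ * d = (d' : G)⁻¹ * ((d : G) * c) * (c : G)⁻¹ := by group
          _ = c' * (c : G)⁻¹ := by rw [e']; group
      have h2 := hDC y₀ hy₀ _ ((Dy y₀).mul_mem ((Dy y₀).inv_mem d'.2) d.2)
        (h1 ▸ C.mul_mem c'.2 (C.inv_mem c.2))
      have h3 : d = d' := Subtype.ext (inv_mul_eq_one.mp h2).symm
      subst h3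
      exact Prod.ext (Subtype.ext (mul_left_cancel e')) rfl
    · rintro ⟨m, hm⟩
      obtain ⟨i, hi, hiy⟩ := hsw o y₀ hy₀.symm
      obtain ⟨d, hd, hdm⟩ := strongly_inter_transitive hSE hi (hnotM hy₀ hiy) hz (hSM hzS)
        (show orderOf (m * z * m⁻¹) = 2 by rw [orderOf_conj]; exact hz)
        (M.mul_mem (M.mul_mem hm (hSM hzS)) (M.inv_mem hm))
      rw [← hDeq y₀ hy₀ i hi hiy] at hd
      refine ⟨⟨⟨d⁻¹ * m, mem_cent_of_conj_fix ?_⟩, ⟨d, hd⟩⟩, Subtype.ext (mul_inv_cancel_left d m)⟩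
      calc d⁻¹ * m * z * (d⁻¹ * m)⁻¹ = d⁻¹ * (m * z * m⁻¹) * d := by group
        _ = z := by rw [← hdm]; group
  have hreg : Function.Bijective (fun c : C =>
      (⟨(c : G) • y₀, hkeep c (hCM c.2) y₀ hy₀⟩ : {y : Ω // y ≠ o})) := by
    have hinj : Function.Injective (fun c : C =>
        (⟨(c : G) • y₀, hkeep c (hCM c.2) y₀ hy₀⟩ : {y : Ω // y ≠ o})) := by
      intro c c' e
      have e' : (c : G) • y₀ = (c' : G) • y₀ := congrArg Subtype.val e
      refine Subtype.ext (inv_mul_eq_one.mp (hDC y₀ hy₀ _ ((hDy _ _).mpr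
        ⟨M.mul_mem (M.inv_mem (hCM c.2)) (hCM c'.2), ?_⟩) (C.mul_mem (C.inv_mem c.2) c'.2)))
      rw [mul_smul, ← e', inv_smul_smul]
    refine (Nat.bijective_iff_injective_and_card _).mpr
      ⟨hinj, le_antisymm (Nat.card_le_card_of_injective _ hinj) ?_⟩
    -- the nontrivial elements of the stabilizers are disjoint outside `C`
    haveI := Fintype.ofFinite G
    have h1 : ∀ y : {y : Ω // y ≠ o}, Nat.card {d : G // d ∈ Dy y.1 ∧ d ≠ 1} + 1 = k := by
      intro y
      rw [← hDcard y.1 y.2, Nat.card_eq_fintype_card, Nat.card_eq_fintype_card,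
        Fintype.card_subtype, Fintype.card_subtype]
      have e : (Finset.univ.filter fun d : G => d ∈ Dy y.1 ∧ d ≠ 1) =
          (Finset.univ.filter fun d : G => d ∈ Dy y.1).erase 1 := by
        ext g; simp [and_comm]
      rw [e, Finset.card_erase_add_one (by simp)]
    let f : (Σ y : {y : Ω // y ≠ o}, {d : G // d ∈ Dy y.1 ∧ d ≠ 1}) →
        {m : G // m ∈ M ∧ m ∉ C} := fun p => ⟨p.2.1, p.2.2.1.1, fun h =>
      p.2.2.2 (hDC p.1.1 p.1.2 _ p.2.2.1 h)⟩
    have hf : Function.Injective f := by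
      rintro ⟨⟨y, hy⟩, ⟨d, hd, hd1⟩⟩ ⟨⟨y', hy'⟩, ⟨d', hd', hd1'⟩⟩ e
      have e' : d = d' := congrArg Subtype.val e
      subst e'
      have : y' = y := ((huniq y hy d hd hd1 y' ((hDy _ _).mp hd').2).resolve_left hy')
      subst this
      rfl
    have h2 := Nat.card_le_card_of_injective f hf
    have h3 : Nat.card {m : G // m ∈ M ∧ m ∉ C} + Nat.card C = Nat.card M := by
      rw [Nat.card_eq_fintype_card, Nat.card_eq_fintype_card, Nat.card_eq_fintype_card,
        Fintype.card_subtype, Fintype.card_subtype, Fintype.card_subtype]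
      rw [← Finset.card_union_of_disjoint (Finset.disjoint_left.mpr fun g hg hg' => by
        simp only [Finset.mem_filter, Finset.mem_univ, true_and] at hg hg'
        exact hg.2 hg')]
      congr 1
      ext g
      simp only [Finset.mem_union, Finset.mem_filter, Finset.mem_univ, true_and]
      exact ⟨fun h => h.elim (·.1) (fun h => hCM h), fun h => (em (g ∈ C)).elim Or.inr
        fun h' => Or.inl ⟨h, h'⟩⟩
    haveI := Fintype.ofFinite {y : Ω // y ≠ o}
    rw [Nat.card_sigma, Finset.sum_congr rfl (g := fun _ => k - 1)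
      (fun y _ => by have := h1 y; omega), Finset.sum_const, Finset.card_univ, smul_eq_mul,
      ← Nat.card_eq_fintype_card] at h2
    rw [hMC] at h3
    obtain ⟨k', hk'⟩ : ∃ k', k = k' + 2 := ⟨k - 2, by omega⟩
    rw [hk', show k' + 2 - 1 = k' + 1 by omega] at h2
    rw [hk', show Nat.card C * (k' + 2) = Nat.card C * (k' + 1) + Nat.card C by ring] at h3
    exact Nat.le_of_mul_le_mul_right (h2.trans (by omega)) (Nat.succ_pos k')
  have hΩ : Nat.card Ω = Nat.card C + 1 := by
    haveI := Fintype.ofFinite Ω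
    rw [Nat.card_congr (Equiv.ofBijective _ hreg), Nat.card_eq_fintype_card,
      Nat.card_eq_fintype_card, Fintype.card_subtype_compl, Fintype.card_subtype_eq]
    have := Fintype.card_pos_iff.mpr ⟨o⟩
    omega
  have hC2 : 2 ≤ Nat.card C := Finite.one_lt_card_iff_nontrivial.mpr
    ⟨⟨z, self_mem_cent z⟩, 1, fun e => hz1 (congrArg Subtype.val e)⟩
  have horbit : ∀ y, y ≠ o → ∃ c ∈ C, c • y₀ = y := fun y hy => by
    obtain ⟨c, hc⟩ := hreg.2 ⟨y, hy⟩
    exact ⟨c, c.2, congrArg Subtype.val hc⟩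
  have htwo : ∀ a b : Ω, a ≠ b → ∃ g : G, g • a = o ∧ g • b = y₀ := by
    intro a b hab
    obtain ⟨g, hg⟩ := hto a
    have hgb : g • b ≠ o := fun e => hab (MulAction.injective g (hg.trans e.symm))
    obtain ⟨c, hc, hcy⟩ := horbit _ hgb
    exact ⟨c⁻¹ * g, by rw [mul_smul, hg, (hoM _).mpr (M.inv_mem (hCM hc))],
      by rw [mul_smul, ← hcy, inv_smul_smul]⟩
  have hthree : ∀ g : G, ∀ a b c : Ω, a ≠ b → b ≠ c → a ≠ c → g • a = a → g • b = b → g • c = c →
      g = 1 := by
    intro g a b c hab hbc hac ha hb hc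
    obtain ⟨x, hxa, hxb⟩ := htwo a b hab
    by_contra hg
    have hx : ∀ w : Ω, g • w = w → (x * g * x⁻¹) • (x • w) = x • w := fun w hw => by
      rw [← mul_smul, inv_mul_cancel_right, mul_smul, hw]
    have hmem : x * g * x⁻¹ ∈ Dy y₀ :=
      (hDy _ _).mpr ⟨(hoM _).mp (hxa ▸ hx a ha), hxb ▸ hx b hb⟩
    rcases huniq y₀ hy₀ _ hmem (fun e => hg (conj_eq_one_iff.mp e)) _ (hx c hc) with h | h
    · exact hac (MulAction.injective x (hxa.trans h.symm))
    · exact hbc (MulAction.injective x (hxb.trans h.symm))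
  haveI hfaith : FaithfulSMul G Ω := by
    refine ⟨fun {g h} e => ?_⟩
    haveI := Fintype.ofFinite Ω
    obtain ⟨a, b, c, hab, hac, hbc⟩ := Fintype.two_lt_card_iff.mp
      (show 2 < Fintype.card Ω by rw [← Nat.card_eq_fintype_card]; omega)
    have hfix : ∀ x : Ω, (h⁻¹ * g) • x = x := fun x => by rw [mul_smul, e x, inv_smul_smul]
    exact (inv_mul_eq_one.mp (hthree _ a b c hab hbc hac (hfix a) (hfix b) (hfix c))).symm
  haveI := Fintype.ofFinite Ω
  have hodd : Odd (Fintype.card Ω) := by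
    rw [← Nat.card_eq_fintype_card, ← Subgroup.index_eq_card, ← Nat.not_even_iff_odd,
      even_iff_two_dvd]
    exact fun h => S.not_dvd_index (h.trans (Subgroup.index_dvd_of_le hSM))
  have hZ : Cfsg.IsZassenhausGroup G Ω := by
    refine ⟨hfaith, ?_, hthree, ?_, ?_⟩
    · rw [MulAction.is_two_pretransitive_iff]
      intro a b c d hab hcd
      obtain ⟨g₁, h1, h2⟩ := htwo a b hab
      obtain ⟨g₂, h3, h4⟩ := htwo c d hcd
      exact ⟨g₂⁻¹ * g₁, by rw [mul_smul, h1, inv_smul_eq_iff, h3],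
        by rw [mul_smul, h2, inv_smul_eq_iff, h4]⟩
    · obtain ⟨⟨d, hd⟩, ⟨d', hd'⟩, hdd⟩ : Nontrivial (Dy y₀) :=
        Finite.one_lt_card_iff_nontrivial.mp (by rw [hDcard y₀ hy₀]; exact hk1)
      rcases eq_or_ne d 1 with rfl | hd1
      · exact ⟨d', fun e => hdd (Subtype.ext e.symm), o, y₀, hy₀.symm,
          (hoM d').mpr ((hDy _ _).mp hd').1, ((hDy _ _).mp hd').2⟩
      · exact ⟨d, hd1, o, y₀, hy₀.symm, (hoM d).mpr ((hDy _ _).mp hd).1, ((hDy _ _).mp hd).2⟩
    · intro N hN htr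
      by_contra hno
      push Not at hno
      haveI := htr
      have hcard : Nat.card N = Nat.card Ω := by
        refine Nat.card_congr (Equiv.ofBijective (fun n : N => n • o) ⟨fun n n' e => ?_, fun x =>
          htr.exists_smul_eq o x⟩)
        have h : n'⁻¹ * n ∈ MulAction.stabilizer N o := MulAction.mem_stabilizer_iff.mpr (by
          rw [mul_smul, show n • o = n' • o from e, inv_smul_smul])
        exact (inv_mul_eq_one.mp ((Subgroup.eq_bot_iff_forall _).mp (hno o) _ h)).symm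
      have := eq_bot_of_odd_normal hsem hN (by rw [hcard, Nat.card_eq_fintype_card]; exact hodd)
      obtain ⟨⟨g, hg⟩, hgo⟩ := htr.exists_smul_eq o y₀
      rw [this, Subgroup.mem_bot] at hg
      subst hg
      exact hy₀ (hgo.symm.trans (one_smul G o))
  haveI := Cfsg.Agent.S0338.result hZ hodd
  -- the kernel is the Sylow subgroup
  obtain ⟨p, j, hp, hj, hpj⟩ := Cfsg.Agent.S0346.result hZ
  rw [← Nat.card_eq_fintype_card, hΩ, Nat.add_sub_cancel] at hpj
  have hp2 : p = 2 := by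
    have h2 : 2 ∣ Nat.card C := hz ▸ C.orderOf_dvd_natCard (self_mem_cent z)
    rw [← hpj] at h2
    exact ((Nat.prime_dvd_prime_iff_eq Nat.prime_two hp.nat_prime).mp
      (Nat.prime_two.dvd_of_dvd_pow h2)).symm
  subst hp2
  have hCS : C ≤ (S : Subgroup G) := fun c hc =>
    hMS c (hCM hc) ⟨j, by
      rw [hpj]
      exact (SubmonoidClass.coe_pow (⟨c, hc⟩ : C) _).symm.trans
        (congrArg Subtype.val (pow_card_eq_one' (x := (⟨c, hc⟩ : C))))⟩
  have hz0 : CfsgLib.Zassenhaus.ZG G Ω :=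
    CfsgLib.Zassenhaus.ZG.mk' hZ.1 hZ.2.1 hZ.2.2.1 hZ.2.2.2.1
  have hK : CfsgLib.Zassenhaus.EvenKernel o C := by
    refine ⟨hz0, fun c hc => (hoM c).mpr (hCM hc), ?_, ?_, S.2.to_le hCS,
      fun a ha b hb => hcen b (hCS hb) a ha⟩
    · intro h hh c hc
      exact hSC ((Subgroup.mem_normalizer_iff.mp ((hoM h).mp hh) c).mp (hCS hc))
    · intro a b ha hb
      obtain ⟨c, hc, rfl⟩ := horbit a ha
      obtain ⟨c', hc', rfl⟩ := horbit b hb
      refine ⟨⟨c' * c⁻¹, C.mul_mem hc' (C.inv_mem hc)⟩,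
        by show (c' * c⁻¹) • c • y₀ = c' • y₀; rw [mul_smul, inv_smul_smul], ?_⟩
      rintro ⟨v, hv⟩ (hvv : v • c • y₀ = c' • y₀)
      have h1 : (⟨v * c, C.mul_mem hv hc⟩ : C) = ⟨c', hc'⟩ :=
        hreg.1 (Subtype.ext (by show (v * c) • y₀ = c' • y₀; rw [mul_smul, hvv]))
      exact Subtype.ext (eq_mul_inv_of_mul_eq (congrArg Subtype.val h1))
  have helem : ∀ s ∈ (S : Subgroup G), s * s = 1 := fun s hs =>
    hK.exponent_two (v := u₀) (orderOf_two_iff.mp hu₀).2 (orderOf_two_iff.mp hu₀).1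
      (fun e => hu₀M ((hoM u₀).mp e)) s (hSC hs)
  refine ⟨hCS, helem, ?_⟩
  rcases Cfsg.Agent.S0340.result hZ with h | ⟨-, m, hm, hmc⟩
  · exact h
  exfalso
  have hk' : k + 1 = Nat.card C := by
    haveI := Fintype.ofFinite G
    rw [hk, Nat.card_eq_fintype_card, Nat.card_eq_fintype_card, Fintype.card_subtype,
      Fintype.card_subtype]
    have e : (Finset.univ.filter fun t : G => orderOf t = 2 ∧ t ∈ M) =
        (Finset.univ.filter fun t : G => t ∈ C).erase 1 := by
      ext t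
      simp only [Finset.mem_erase, Finset.mem_filter, Finset.mem_univ, true_and]
      constructor
      · rintro ⟨ht, htM⟩
        exact ⟨(orderOf_two_iff.mp ht).2, hSC (hMinv t htM ht)⟩
      · rintro ⟨ht, htC⟩
        exact ⟨orderOf_two_iff.mpr ⟨helem t (hCS htC), ht⟩, hCM htC⟩
    rw [e, Finset.card_erase_add_one (by simp [C.one_mem])]
  have hG : Nat.card G = (2 ^ j + 1) * 2 ^ j * (2 ^ j - 1) := by
    rw [← M.card_mul_index, Subgroup.index_eq_card, show Nat.card (G ⧸ M) = Nat.card C + 1 from hΩ,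
      hMC, ← hpj, show k = 2 ^ j - 1 by omega]
    ring
  exact suzuki_order_ne hm hj (hmc.symm.trans hG)
where
  mem_normalizer_of_le {H : Subgroup G} {g : G} (h : ∀ a ∈ H, g * a * g⁻¹ ∈ H) :
      g ∈ Subgroup.normalizer (H : Set G) := by
    refine Subgroup.mem_normalizer_iff.mpr fun a => ⟨h a, fun ha => ?_⟩
    have hb : Function.Bijective (fun b : H => (⟨g * (b : G) * g⁻¹, h b b.2⟩ : H)) :=
      Finite.injective_iff_bijective.mp fun a b e => Subtype.ext
        (mul_left_cancel (mul_right_cancel (congrArg Subtype.val e :)))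
    obtain ⟨b, hbe⟩ := hb.2 ⟨_, ha⟩
    exact (mul_left_cancel (mul_right_cancel (congrArg Subtype.val hbe :)) : (b : G) = a) ▸ b.2

end CfsgLib.CyclicNorm
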