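import Cfsg.Agent.Lib.CyclicNorm.Abelian
import Cfsg.Agent.Lib.Invol.KleinSylow
import Cfsg.Agent.S0107
import Cfsg.Agent.S0508

/-!
# The dihedral configuration

Without a normal subgroup of index two the group is simple, hence `PSL(2, q)` for an odd `q`;
otherwise the normal subgroup of index two is of this kind.
-/

set_option autoImplicit false
set_option linter.unusedSectionVars false
set_option linter.style.haveILetI false

namespace CfsgLib.CyclicNorm

theorem equiv_dihedral {H : Type*} [Group H] [Finite H] {n : ℕ} [NeZero n]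
    (hc : Nat.card H = 2 * n) {s x : H} (hs : orderOf s = n) (hx : x * x = 1)
    (hxs : x ∉ Subgroup.zpowers s) (hinv : x * s * x⁻¹ = s⁻¹) : Nonempty (H ≃* DihedralGroup n) := by
  have hsn : s ^ n = 1 := hs ▸ pow_orderOf_eq_one s
  have hx' : x⁻¹ = x := inv_eq_of_mul_eq_one_right hx
  let ρ : ZMod n → H := fun i => s ^ i.val
  have hadd : ∀ i j, ρ (i + j) = ρ i * ρ j := by
    intro i j
    show s ^ (i + j).val = s ^ i.val * s ^ j.val
    rw [← pow_add, pow_eq_pow_iff_modEq, hs, ZMod.val_add]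
    exact Nat.mod_modEq _ _
  have hρ0 : ρ 0 = 1 := by show s ^ (0 : ZMod n).val = 1; rw [ZMod.val_zero, pow_zero]
  have hρn : ∀ i, ρ (-i) = (ρ i)⁻¹ := fun i => eq_inv_of_mul_eq_one_left (by
    rw [← hadd, neg_add_cancel, hρ0])
  have hρx : ∀ i, ρ i * x = x * ρ (-i) := by
    intro i
    have h1 : x * ρ i * x⁻¹ = (ρ i)⁻¹ := by
      show x * s ^ i.val * x⁻¹ = (s ^ i.val)⁻¹
      rw [← conj_pow, hinv, inv_pow]
    rw [hρn, ← h1, hx']
    calc ρ i * x = (x * x) * ρ i * x := by rw [hx, one_mul]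
      _ = x * (x * ρ i * x) := by simp only [mul_assoc]
  let f : DihedralGroup n → H := fun d => match d with
    | DihedralGroup.r i => ρ i
    | DihedralGroup.sr i => x * ρ i
  have hf : ∀ a b, f (a * b) = f a * f b := by
    rintro (i | i) (j | j)
    · exact hadd i j
    · show x * ρ (j - i) = ρ i * (x * ρ j)
      rw [← mul_assoc, hρx, mul_assoc, ← hadd, neg_add_eq_sub]
    · show x * ρ (i + j) = x * ρ i * ρ j
      rw [hadd, mul_assoc]
    · show ρ (j - i) = x * ρ i * (x * ρ j)
      calc ρ (j - i) = (x * x) * (ρ (-i) * ρ j) := by rw [hx, one_mul, ← hadd, neg_add_eq_sub]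
        _ = x * (x * ρ (-i)) * ρ j := by simp only [mul_assoc]
        _ = x * (ρ i * x) * ρ j := by rw [hρx]
        _ = x * ρ i * (x * ρ j) := by simp only [mul_assoc]
  let F : DihedralGroup n →* H := MonoidHom.mk' f hf
  have hinj : Function.Injective F := by
    rw [← MonoidHom.ker_eq_bot_iff, Subgroup.eq_bot_iff_forall]
    rintro (i | i) hi
    · have h1 : s ^ i.val = 1 := hi
      rw [← orderOf_dvd_iff_pow_eq_one, hs] at h1
      rw [(ZMod.val_eq_zero i).1 (Nat.eq_zero_of_dvd_of_lt h1 (ZMod.val_lt i)), DihedralGroup.r_zero]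
    · have h1 : x * s ^ i.val = 1 := hi
      exact absurd (eq_inv_of_mul_eq_one_left h1 ▸
        inv_mem (pow_mem (Subgroup.mem_zpowers s) _)) hxs
  exact ⟨(MulEquiv.ofBijective F
    ((Nat.bijective_iff_injective_and_card _).2 ⟨hinj, by rw [DihedralGroup.nat_card, hc]⟩)).symm⟩

variable {G : Type*} [Group G] [Finite G]

namespace Dih

variable {S : Sylow 2 G} {A : Subgroup G} {z : G}

theorem z_ne (d : Dih S A z) : z ≠ 1 := (orderOf_two_iff.mp d.inv).2

theorem z_mul (d : Dih S A z) : z * z = 1 := (orderOf_two_iff.mp d.inv).1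

theorem central (d : Dih S A z) {s : G} (hs : s ∈ (S : Subgroup G)) : s * z = z * s := by
  by_cases hsA : s ∈ A
  · exact d.comm s hsA z d.mem
  · have := (d.out s hs hsA).2 z d.mem
    rw [inv_eq_of_mul_eq_one_right d.z_mul] at this
    exact mul_inv_eq_iff_eq_mul.mp this

theorem le_cent (d : Dih S A z) : (S : Subgroup G) ≤ cent z := fun _ hs =>
  mem_cent.mpr (d.central hs)

theorem out_order (d : Dih S A z) {s : G} (hs : s ∈ (S : Subgroup G)) (hsA : s ∉ A) :
    orderOf s = 2 := orderOf_two_iff.mpr ⟨(d.out s hs hsA).1, fun e => hsA (e ▸ A.one_mem)⟩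

theorem core_comm (d : Dih S A z) {k l : G} (hk : k ∈ core z) (hl : l ∈ core z) :
    k * l = l * k := by
  obtain ⟨s, hs, hsA⟩ := d.ex
  have h := d.invK s hs hsA _ ((core z).mul_mem hk hl)
  rw [show s * (k * l) * s⁻¹ = (s * k * s⁻¹) * (s * l * s⁻¹) by group, d.invK s hs hsA k hk,
    d.invK s hs hsA l hl, ← mul_inv_rev, inv_inj] at h
  exact h.symm

/-- Only `z` centralizes a nontrivial element of the odd part. -/
theorem invol_of_commute (d : Dih S A z) (hH : Hyp G) {y i : G} (hy : y ∈ core z) (hy1 : y ≠ 1)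
    (hi : orderOf i = 2) (hiy : i * y = y * i) : i = z := by
  have hc := cent_eq_of_commute hH d.inv hi (core_le z hy) (odd_of_mem_core hy) hy1
    (mem_cent.mpr hiy.symm)
  have hiz : i ∈ cent z := hc ▸ self_mem_cent i
  obtain ⟨k, hk, s, hs, rfl⟩ := cent_decomp hH d.inv S d.le_cent hiz
  have hsA : s ∈ A := by
    by_contra h
    have h1 : s * y = y * s := by
      refine mul_left_cancel (a := k) ?_
      rw [← mul_assoc, hiy, ← mul_assoc k y, d.core_comm hk hy, mul_assoc]
    have h2 := d.invK s hs h y hy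
    rw [h1, mul_inv_cancel_right] at h2
    refine hy1 (eq_one_of_odd_of_sq (odd_of_mem_core hy) ?_)
    nth_rewrite 1 [h2]
    exact inv_mul_cancel y
  obtain ⟨h2, h1⟩ := orderOf_two_iff.mp hi
  have e : k * k * (s * s) = 1 := by
    rw [← h2]
    calc k * k * (s * s) = k * (k * s) * s := by group
      _ = k * (s * k) * s := by rw [d.cen s hsA k hk]
      _ = k * s * (k * s) := by group
  obtain ⟨n, hn⟩ := S.2 ⟨s * s, Subgroup.mul_mem _ hs hs⟩
  have hn' : (s * s) ^ 2 ^ n = 1 := by simpa using congrArg Subtype.val hn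
  have hk1 : k = 1 := by
    have h3 : (k * k) ^ 2 ^ n = 1 := by
      rw [eq_inv_of_mul_eq_one_left e, inv_pow, hn', inv_one]
    rw [← pow_two, ← pow_mul, ← pow_succ'] at h3
    exact eq_one_of_mem_core_of_two hk h3
  rw [hk1, one_mul] at h1 h2 ⊢
  exact (d.uniq s hsA h2).resolve_left h1

theorem normalizer_le (d : Dih S A z) (hH : Hyp G) {Y : Subgroup G} (hY : Y ≤ core z)
    (hY1 : Y ≠ ⊥) : Subgroup.normalizer (Y : Set G) ≤ cent z := by
  intro g hg
  obtain ⟨y, hy, hy1⟩ := (Subgroup.bot_or_exists_ne_one Y).resolve_left hY1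
  refine mem_cent_of_conj_fix (d.invol_of_commute hH (hY hy) hy1 (by rw [orderOf_conj]; exact d.inv) ?_)
  have h1 : g⁻¹ * y * g ∈ core z := hY ((Subgroup.mem_normalizer_iff.mp hg _).mpr (by
    rw [show g * (g⁻¹ * y * g) * g⁻¹ = y by group]; exact hy))
  have h2 := mem_cent.mp (core_le z h1)
  calc g * z * g⁻¹ * y = g * (z * (g⁻¹ * y * g)) * g⁻¹ := by group
    _ = g * (g⁻¹ * y * g * z) * g⁻¹ := by rw [h2]
    _ = y * (g * z * g⁻¹) := by group

theorem exists_generator (d : Dih S A z) : ∃ a ∈ A, A ≤ Subgroup.zpowers a := by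
  haveI := Fact.mk Nat.prime_two
  obtain ⟨a, ha⟩ := Finite.exists_max (fun x : A => orderOf (x : G))
  refine ⟨a, a.2, ?_⟩
  have hza : z ∈ Subgroup.zpowers (a : G) := by
    obtain ⟨n, hn⟩ := two_pow_order S (d.le a.2)
    rcases n with _ | n
    · have h := ha ⟨z, d.mem⟩
      simp only [hn, d.inv] at h
      omega
    · have h := orderOf_pow_half hn
      rw [← (d.uniq _ (A.pow_mem a.2 _) (orderOf_two_iff.mp h).1).resolve_left
        (orderOf_two_iff.mp h).2]
      exact Subgroup.pow_mem _ (Subgroup.mem_zpowers _) _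
  have key : ∀ n : ℕ, ∀ b ∈ A, orderOf b = 2 ^ n → b ∈ Subgroup.zpowers (a : G) := by
    intro n
    induction n with
    | zero =>
      intro b _ hb
      obtain rfl : b = 1 := orderOf_eq_one_iff.mp (by rw [hb, pow_zero])
      exact Subgroup.one_mem _
    | succ n ih =>
      intro b hb hbo
      have h2 : orderOf (b * b) = 2 ^ n := by
        rw [← pow_two, orderOf_pow_of_dvd two_ne_zero (hbo ▸ dvd_pow_self 2 (Nat.succ_ne_zero n)),
          hbo, pow_succ, Nat.mul_div_cancel _ two_pos]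
      obtain ⟨i, hi⟩ := Subgroup.mem_zpowers_iff.mp (ih _ (A.mul_mem hb hb) h2)
      rcases Int.even_or_odd i with ⟨j, rfl⟩ | ⟨j, rfl⟩
      · have hc : Commute b ((a : G) ^ j)⁻¹ := d.comm b hb _ (A.inv_mem (A.zpow_mem a.2 j))
        have hb' : b * ((a : G) ^ j)⁻¹ * (b * ((a : G) ^ j)⁻¹) = 1 := by
          rw [← pow_two, hc.mul_pow, pow_two, pow_two, ← hi, zpow_add]; group
        have e : b = b * ((a : G) ^ j)⁻¹ * (a : G) ^ j := by group
        rw [e]
        refine Subgroup.mul_mem _ ?_ (Subgroup.zpow_mem _ (Subgroup.mem_zpowers _) j)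
        rcases d.uniq _ (A.mul_mem hb (A.inv_mem (A.zpow_mem a.2 j))) hb' with h | h
        · rw [h]; exact Subgroup.one_mem _
        · rw [h]; exact hza
      · exfalso
        obtain ⟨m, hm⟩ := two_pow_order S (d.le a.2)
        have hgen : (a : G) ∈ Subgroup.zpowers (b * b) := by
          have hcop : IsCoprime (2 * j + 1) ((orderOf (a : G) : ℤ)) := by
            rw [hm, Nat.cast_pow]
            refine IsCoprime.pow_right ?_
            exact ⟨1, -j, by push_cast; ring⟩
          obtain ⟨u, v, huv⟩ := hcop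
          refine ⟨u, ?_⟩
          simp only
          rw [← hi, ← zpow_mul]
          conv_rhs => rw [← zpow_one (a : G), ← huv, zpow_add, mul_comm v, zpow_mul, zpow_mul,
            zpow_natCast, pow_orderOf_eq_one, one_zpow, mul_one]
          rw [← zpow_mul, mul_comm]
        have h3 := Nat.le_of_dvd (orderOf_pos _) (orderOf_dvd_of_mem_zpowers hgen)
        have h4 := ha ⟨b, hb⟩
        simp only [hbo] at h4
        rw [h2] at h3
        have := Nat.two_pow_pos n
        rw [pow_succ] at h4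
        omega
  intro b hb
  obtain ⟨n, hn⟩ := two_pow_order S (d.le hb)
  exact key n b hb hn

theorem card_sylow (d : Dih S A z) : Nat.card (S : Subgroup G) = 2 * Nat.card A := by
  classical
  obtain ⟨s, hs, hsA⟩ := d.ex
  have hss := (d.out s hs hsA).1
  rw [two_mul, ← Nat.card_sum]
  refine (Nat.card_congr (Equiv.ofBijective (fun p : A ⊕ A => p.elim
    (fun a : A => (⟨a, d.le a.2⟩ : (S : Subgroup G)))
    (fun a : A => ⟨s * a, Subgroup.mul_mem _ hs (d.le a.2)⟩)) ⟨?_, ?_⟩)).symm
  · rintro (a | a) (b | b) e <;> have e' := congrArg Subtype.val e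
    · exact congrArg Sum.inl (Subtype.ext e')
    · exact absurd (by rw [eq_mul_inv_of_mul_eq (show s * (b : G) = a from e'.symm)]
                       exact A.mul_mem a.2 (A.inv_mem b.2)) hsA
    · exact absurd (by rw [eq_mul_inv_of_mul_eq (show s * (a : G) = b from e')]
                       exact A.mul_mem b.2 (A.inv_mem a.2)) hsA
    · exact congrArg Sum.inr (Subtype.ext (mul_left_cancel e'))
  · rintro ⟨x, hx⟩
    by_cases hxA : x ∈ A
    · exact ⟨Sum.inl ⟨x, hxA⟩, rfl⟩
    · refine ⟨Sum.inr ⟨s * x, d.prod s hs x hx hsA hxA⟩, Subtype.ext ?_⟩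
      show s * (s * x) = x
      rw [← mul_assoc, hss, one_mul]

theorem dihedral (d : Dih S A z) :
    Nonempty ((S : Subgroup G) ≃* DihedralGroup (Nat.card A)) := by
  obtain ⟨a, ha, hA⟩ := d.exists_generator
  obtain ⟨s, hs, hsA⟩ := d.ex
  haveI : NeZero (Nat.card A) := ⟨Nat.card_pos.ne'⟩
  refine equiv_dihedral d.card_sylow (s := ⟨a, d.le ha⟩) (x := ⟨s, hs⟩) ?_ ?_ ?_ ?_
  · rw [Subgroup.orderOf_mk, ← Nat.card_zpowers,
      le_antisymm hA (Subgroup.zpowers_le.mpr ha)]
  · exact Subtype.ext (d.out s hs hsA).1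
  · intro h
    obtain ⟨i, hi⟩ := h
    have e : a ^ i = s := by simpa using congrArg Subtype.val hi
    exact hsA (e ▸ A.zpow_mem ha i)
  · exact Subtype.ext ((d.out s hs hsA).2 a ha)

theorem two_le_card (d : Dih S A z) : 2 ≤ Nat.card A :=
  d.inv ▸ Nat.le_of_dvd Nat.card_pos (A.orderOf_dvd_natCard d.mem)

end Dih

/-- The Sylow subgroup of a normal subgroup. -/
noncomputable def sylowInter (S : Sylow 2 G) (N : Subgroup G) [N.Normal] : Sylow 2 N :=
  (S.2.comap_of_injective N.subtype N.subtype_injective).toSylow (fun h => by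
    haveI : Fact (Nat.Prime 2) := ⟨Nat.prime_two⟩
    exact S.not_dvd_index (h.trans (Fitting.relIndex_dvd_index_of_normal_right _ N)))

theorem mem_sylowInter (S : Sylow 2 G) (N : Subgroup G) [N.Normal] {u : N} :
    u ∈ (sylowInter S N : Subgroup N) ↔ (u : G) ∈ (S : Subgroup G) := Iff.rfl

theorem two_involutions [Nontrivial G] (hsem : Sem G) (S : Sylow 2 G) {N : Subgroup G}
    (hN : N.Normal) (hne : N ≠ ⊥) : ∃ i j : G, i ∈ (S : Subgroup G) ∧ i ∈ N ∧
      j ∈ (S : Subgroup G) ∧ j ∈ N ∧ orderOf i = 2 ∧ orderOf j = 2 ∧ i ≠ j := by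
  haveI := hN
  haveI := Fact.mk Nat.prime_two
  haveI : Nontrivial N := (Subgroup.nontrivial_iff_ne_bot N).mpr hne
  obtain ⟨x, hx⟩ := exists_prime_orderOf_dvd_card' (G := (sylowInter S N : Subgroup N)) 2
    ((sylowInter S N).dvd_card_of_dvd_card (even_card (hsem.subgroup N)))
  obtain ⟨g, hg, hgne⟩ := not_isolated (hsem.subgroup N) (sylowInter S N) (z := (x : N))
    (by rw [Subgroup.orderOf_coe, hx]) x.2
  refine ⟨((x : N) : G), ((g * (x : N) * g⁻¹ : N) : G), (mem_sylowInter S N).mp x.2,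
    (x : N).2, (mem_sylowInter S N).mp hg, (g * (x : N) * g⁻¹ : N).2, ?_, ?_, fun e =>
      hgne (Subtype.ext e.symm)⟩
  · rw [Subgroup.orderOf_coe, Subgroup.orderOf_coe, hx]
  · rw [Subgroup.orderOf_coe, orderOf_conj, Subgroup.orderOf_coe, hx]

namespace Dih

variable {S : Sylow 2 G} {A : Subgroup G} {z : G}

theorem exists_out_mem [Nontrivial G] (d : Dih S A z) (hsem : Sem G) {N : Subgroup G}
    (hN : N.Normal) (hne : N ≠ ⊥) : z ∈ N ∧ ∃ s ∈ (S : Subgroup G), s ∈ N ∧ s ∉ A := by
  obtain ⟨i, j, hiS, hiN, hjS, hjN, hi, hj, hij⟩ := two_involutions hsem S hN hne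
  have hA : ∀ u ∈ A, orderOf u = 2 → u = z := fun u hu h =>
    (d.uniq u hu (orderOf_two_iff.mp h).1).resolve_left (orderOf_two_iff.mp h).2
  have hex : ∃ s ∈ (S : Subgroup G), s ∈ N ∧ s ∉ A := by
    by_cases hiA : i ∈ A
    · exact ⟨j, hjS, hjN, fun hjA => hij ((hA i hiA hi).trans (hA j hjA hj).symm)⟩
    · exact ⟨i, hiS, hiN, hiA⟩
  refine ⟨?_, hex⟩
  by_cases hiA : i ∈ A
  · exact hA i hiA hi ▸ hiN
  by_cases hjA : j ∈ A
  · exact hA j hjA hj ▸ hjN
  have hp := d.prod i hiS j hjS hiA hjA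
  have hp1 : i * j ≠ 1 := fun h => hij (by
    rw [eq_inv_of_mul_eq_one_left h, inv_eq_of_mul_eq_one_right (orderOf_two_iff.mp hj).1])
  obtain ⟨n, hn⟩ := two_pow_order S (d.le hp)
  rcases n with _ | n
  · exact absurd (orderOf_eq_one_iff.mp hn) hp1
  · rw [← hA _ (A.pow_mem hp _) (orderOf_pow_half hn)]
    exact N.pow_mem (N.mul_mem hiN hjN) _

theorem restrict (d : Dih S A z) (hH : Hyp G) (N : Subgroup G) [N.Normal] (hz : z ∈ N)
    (hs : ∃ s ∈ (S : Subgroup G), s ∈ N ∧ s ∉ A) :
    Dih (sylowInter S N) (A.subgroupOf N) ⟨z, hz⟩ := by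
  have hz2 : orderOf (⟨z, hz⟩ : N) = 2 := by rw [← Subgroup.orderOf_coe]; exact d.inv
  have hcore : ∀ y : N, y ∈ core (⟨z, hz⟩ : N) → (y : G) ∈ core z := fun y hy =>
    mem_core hH d.inv (mem_cent.mpr (congrArg Subtype.val (mem_cent.mp (core_le _ hy))))
      (by rw [Subgroup.orderOf_coe]; exact odd_of_mem_core hy)
  refine
    { le := fun u hu => (mem_sylowInter S N).mpr (d.le hu)
      mem := d.mem
      inv := hz2
      uniq := fun u hu h => (d.uniq u hu (congrArg Subtype.val h)).imp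
        (fun e => Subtype.ext e) (fun e => Subtype.ext e)
      comm := fun a ha b hb => Subtype.ext (d.comm _ ha _ hb)
      out := fun s hs hsA => ⟨Subtype.ext (d.out _ ((mem_sylowInter S N).mp hs) hsA).1,
        fun a ha => Subtype.ext ((d.out _ ((mem_sylowInter S N).mp hs) hsA).2 _ ha)⟩
      prod := fun s hs t ht hsA htA =>
        d.prod _ ((mem_sylowInter S N).mp hs) _ ((mem_sylowInter S N).mp ht) hsA htA
      ex := by obtain ⟨s, hsS, hsN, hsA⟩ := hs; exact ⟨⟨s, hsN⟩, hsS, hsA⟩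
      invK := fun s hs hsA y hy =>
        Subtype.ext (d.invK _ ((mem_sylowInter S N).mp hs) hsA _ (hcore y hy))
      cen := fun a ha y hy => Subtype.ext (d.cen _ ha _ (hcore y hy)) }

end Dih

/-- The subgroup generated by the elements of odd order of `N`. -/
theorem odd_gen_normal {N : Subgroup G} (hN : N.Normal) :
    (Subgroup.closure {g : G | g ∈ N ∧ Odd (orderOf g)}).Normal := by
  refine ⟨fun x hx c => ?_⟩
  have hle : (Subgroup.closure {g : G | g ∈ N ∧ Odd (orderOf g)}).map (MulAut.conj c).toMonoidHom ≤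
      Subgroup.closure {g : G | g ∈ N ∧ Odd (orderOf g)} := by
    rw [MonoidHom.map_closure]
    refine Subgroup.closure_mono ?_
    rintro _ ⟨y, ⟨hy, hyo⟩, rfl⟩
    exact ⟨hN.conj_mem y hy c, by show Odd (orderOf (c * y * c⁻¹)); rw [orderOf_conj]; exact hyo⟩
  exact hle ⟨x, hx, rfl⟩

theorem odd_gen_ne_bot (hsem : Sem G) {N : Subgroup G} (hN : N.Normal) (hne : N ≠ ⊥) :
    Subgroup.closure {g : G | g ∈ N ∧ Odd (orderOf g)} ≠ ⊥ := by
  haveI := Fact.mk Nat.prime_two
  intro h
  refine hne (hsem N hN ?_)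
  haveI := IsPGroup.isNilpotent (p := 2) (G := N) (fun g => by
    obtain ⟨k, m, hm, hkm⟩ := Nat.exists_eq_two_pow_mul_odd (orderOf_pos (g : G)).ne'
    refine ⟨k, Subtype.ext ?_⟩
    show (g : G) ^ 2 ^ k = 1
    refine Subgroup.mem_bot.mp (h ▸ Subgroup.subset_closure ⟨N.pow_mem g.2 _, ?_⟩)
    rw [orderOf_pow' _ (by positivity), hkm, Nat.gcd_mul_right_left,
      Nat.mul_div_cancel_left _ (by positivity)]
    exact hm)
  infer_instance

theorem odd_gen_le {N : Subgroup G} {L : Subgroup N} [L.Normal] (hL : L.index = 2) :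
    Subgroup.closure {g : G | g ∈ N ∧ Odd (orderOf g)} ≤ L.map N.subtype := by
  refine (Subgroup.closure_le _).mpr ?_
  rintro g ⟨hg, hgo⟩
  exact ⟨⟨g, hg⟩, odd_mem_of_index_two hL (by rw [← Subgroup.orderOf_coe]; exact hgo), rfl⟩

theorem pResidual_eq_top (hno : ∀ M : Subgroup G, M.index ≠ 2) : Cfsg.pResidual 2 G = ⊤ := by
  haveI := Fact.mk Nat.prime_two
  set R := Cfsg.pResidual 2 G
  have hRn : R.Normal := by
    refine ⟨fun x hx c => ?_⟩
    have hle : R.map (MulAut.conj c).toMonoidHom ≤ R := by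
      show (Subgroup.closure _).map _ ≤ Subgroup.closure _
      rw [MonoidHom.map_closure]
      refine Subgroup.closure_mono ?_
      rintro _ ⟨y, hy, rfl⟩
      show Nat.Coprime (orderOf (c * y * c⁻¹)) 2
      rw [orderOf_conj]; exact hy
    exact hle ⟨x, hx, rfl⟩
  by_contra hne
  have hp : IsPGroup 2 (G ⧸ R) := by
    intro q
    obtain ⟨g, rfl⟩ := QuotientGroup.mk_surjective q
    obtain ⟨k, m, hm, hkm⟩ := Nat.exists_eq_two_pow_mul_odd (orderOf_pos g).ne'
    refine ⟨k, ?_⟩
    rw [← QuotientGroup.mk_pow, QuotientGroup.eq_one_iff]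
    refine Subgroup.subset_closure ?_
    show Nat.Coprime _ 2
    rw [orderOf_pow' _ (by positivity), hkm, Nat.gcd_mul_right_left,
      Nat.mul_div_cancel_left _ (by positivity)]
    exact Nat.coprime_two_right.mpr hm
  obtain ⟨M, hM⟩ := CfsgLib.Transfer.exists_index_of_hom_isPGroup hp (QuotientGroup.mk' R)
    (fun h => hne (by
      have h1 := QuotientGroup.ker_mk' R
      rw [h, MonoidHom.ker_one] at h1
      exact h1.symm))
  exact hno M hM

theorem one_class [Nontrivial G] (hsem : Sem G) {S : Sylow 2 G} {A : Subgroup G} {z : G}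
    (d : Dih S A z) (hno : ∀ M : Subgroup G, M.index ≠ 2) :
    ∀ x y : G, orderOf x = 2 → orderOf y = 2 → IsConj x y := by
  haveI := Fact.mk Nat.prime_two
  obtain ⟨e⟩ := d.dihedral
  obtain ⟨m, -, hm⟩ : ∃ m ≤ (Nat.card G).factorization 2, Nat.card A = 2 ^ m :=
    (Nat.dvd_prime_pow Nat.prime_two).mp (by
      rw [← S.card_eq_multiplicity, d.card_sylow]; exact dvd_mul_left _ _)
  rcases m with _ | _ | m
  · have := d.two_le_card
    rw [hm] at this
    omega
  · have hsq : ∀ w : (S : Subgroup G), w * w = 1 := by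
      obtain ⟨e'⟩ : Nonempty ((S : Subgroup G) ≃* DihedralGroup 2) := by
        have h : ∀ n, Nat.card A = n → Nonempty ((S : Subgroup G) ≃* DihedralGroup n) := by
          rintro _ rfl; exact ⟨e⟩
        exact h 2 (by rw [hm]; norm_num)
      exact fun w => e'.injective (by
        rw [map_mul, map_one]
        exact (by decide : ∀ d : DihedralGroup 2, d * d = 1) _)
    have hK : IsKleinFour (S : Subgroup G) := by
      refine ⟨by rw [d.card_sylow, hm]; norm_num, ?_⟩
      haveI : Nontrivial (S : Subgroup G) := Finite.one_lt_card_iff_nontrivial.mp (by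
        rw [d.card_sylow, hm]; norm_num)
      rw [Monoid.exponent_eq_prime_iff Nat.prime_two |>.mpr]
      intro w hw
      exact orderOf_eq_prime (by rw [pow_two, hsq]) hw
    refine (CfsgLib.Invol.klein_complement_or_one_class S hK).resolve_left ?_
    rintro ⟨N, hN, hc⟩
    have hidx : N.index = Nat.card (S : Subgroup G) := hc.symm.index_eq_card
    have hcard : Nat.card N = (S : Subgroup G).index := by
      have h1 := N.card_mul_index
      rw [hidx, ← (S : Subgroup G).card_mul_index, mul_comm] at h1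
      exact Nat.eq_of_mul_eq_mul_left Nat.card_pos h1
    have hodd : Odd (Nat.card N) := by
      rw [hcard, ← Nat.not_even_iff_odd, even_iff_two_dvd]
      exact S.not_dvd_index
    rw [eq_bot_of_odd_normal hsem hN hodd, Subgroup.index_bot] at hidx
    have hStop : (S : Subgroup G) = ⊤ := Subgroup.eq_top_of_card_eq _ hidx.symm
    exact not_isSolvable hsem (by
      haveI := (S.2.of_equiv ((MulEquiv.subgroupCongr hStop).trans Subgroup.topEquiv)).isNilpotent
      infer_instance)
  · intro x y hx hy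
    obtain ⟨g, hg⟩ := Cfsg.Agent.S0107.result S (m + 2) (by omega)
      (by rw [← hm]; exact ⟨e⟩) (pResidual_eq_top hno) x y hx hy
    exact isConj_iff.mpr ⟨g, hg⟩

/-- Without normal subgroup of index two the dihedral configuration is `PSL(2, q)`, `q` odd. -/
theorem dih_simple [Nontrivial G] (hH : Hyp G) (hsem : Sem G) {S : Sylow 2 G} {A : Subgroup G}
    {z : G} (d : Dih S A z) (hno : ∀ M : Subgroup G, M.index ≠ 2) :
    ∃ (F : Type) (_ : Field F) (_ : Fintype F), Odd (Fintype.card F) ∧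
      Nonempty (G ≃* Matrix.ProjectiveSpecialLinearGroup (Fin 2) F) := by
  classical
  haveI := Fact.mk Nat.prime_two
  have hcls := one_class hsem d hno
  haveI : IsSimpleGroup G := by
    refine ⟨fun N hN => ?_⟩
    by_cases hne : N = ⊥
    · exact Or.inl hne
    right
    haveI := hN
    haveI : Nontrivial N := (Subgroup.nontrivial_iff_ne_bot N).mpr hne
    obtain ⟨hz, hs⟩ := d.exists_out_mem hsem hN hne
    have hinv : ∀ x : G, orderOf x = 2 → x ∈ N := by
      intro x hx
      obtain ⟨c, hc⟩ := isConj_iff.mp (hcls z x d.inv hx)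
      exact hc ▸ hN.conj_mem z hz c
    have hSN : (S : Subgroup G) ≤ N := by
      intro a ha
      by_cases haA : a ∈ A
      · obtain ⟨s, hsS, hsA⟩ := d.ex
        have h1 : s * a ∉ A := fun h => hsA (by simpa using A.mul_mem h (A.inv_mem haA))
        have e : a = s * (s * a) := by rw [← mul_assoc, (d.out s hsS hsA).1, one_mul]
        rw [e]
        exact N.mul_mem (hinv s (d.out_order hsS hsA))
          (hinv _ (d.out_order (Subgroup.mul_mem _ hsS ha) h1))
      · exact hinv a (d.out_order ha haA)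
    have hnoN : ∀ L : Subgroup N, L.index ≠ 2 := by
      intro L hL
      haveI := Subgroup.normal_of_index_eq_two hL
      set K := Subgroup.closure {g : G | g ∈ N ∧ Odd (orderOf g)} with hK
      have hKn := odd_gen_normal hN
      have hKne := odd_gen_ne_bot hsem hN hne
      obtain ⟨hzK, -⟩ := d.exists_out_mem hsem hKn hKne
      refine (sylowInter S N).not_dvd_index
        ((dvd_of_eq hL.symm).trans (Subgroup.index_dvd_of_le fun u hu => ?_))
      have hu' : (u : G) ∈ (S : Subgroup G) := hu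
      have hall : ∀ x : G, orderOf x = 2 → x ∈ L.map N.subtype := fun x hx => by
        obtain ⟨c, hc⟩ := isConj_iff.mp (hcls z x d.inv hx)
        exact odd_gen_le hL (hc ▸ hKn.conj_mem z hzK c)
      have hmem : (u : G) ∈ L.map N.subtype := by
        by_cases huA : (u : G) ∈ A
        · obtain ⟨s, hsS, hsA⟩ := d.ex
          have h1 : s * (u : G) ∉ A := fun h => hsA (by simpa using A.mul_mem h (A.inv_mem huA))
          have e : (u : G) = s * (s * u) := by rw [← mul_assoc, (d.out s hsS hsA).1, one_mul]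
          rw [e]
          exact Subgroup.mul_mem _ (hall s (d.out_order hsS hsA))
            (hall _ (d.out_order (Subgroup.mul_mem _ hsS hu') h1))
        · exact hall _ (d.out_order hu' huA)
      obtain ⟨v, hv, hvu⟩ := hmem
      rwa [← Subtype.ext hvu]
    have hclsN := one_class (hsem.subgroup N) (d.restrict hH N hz hs) hnoN
    have hCN : cent z ≤ N := by
      intro c hc
      obtain ⟨k, hk, q, hq, rfl⟩ := cent_decomp hH d.inv S d.le_cent hc
      refine N.mul_mem ?_ (hSN hq)
      obtain ⟨s, hsS, hsA⟩ := d.ex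
      have h2 : k * k ∈ N := by
        have h3 := d.invK s hsS hsA k hk
        have e : k * k = k * (s * (k⁻¹) * s⁻¹) := by
          rw [show s * k⁻¹ * s⁻¹ = (s * k * s⁻¹)⁻¹ by group, h3, inv_inv]
        rw [e, show k * (s * k⁻¹ * s⁻¹) = (k * s * k⁻¹) * s⁻¹ by group]
        exact N.mul_mem (hN.conj_mem s (hSN hsS) k) (N.inv_mem (hSN hsS))
      obtain ⟨j, hj⟩ := odd_of_mem_core hk
      have h4 := N.inv_mem (N.pow_mem h2 j)
      have e : ((k * k) ^ j)⁻¹ = k := by
        refine inv_eq_of_mul_eq_one_right ?_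
        rw [← pow_two, ← pow_mul, ← pow_succ, ← hj, pow_orderOf_eq_one]
      rwa [e] at h4
    refine eq_top_iff.mpr fun g _ => ?_
    obtain ⟨n, hn⟩ := isConj_iff.mp (hclsN ⟨z, hz⟩ ⟨g * z * g⁻¹, hN.conj_mem z hz g⟩
      (by rw [← Subgroup.orderOf_coe]; exact d.inv)
      (by rw [← Subgroup.orderOf_coe]; show orderOf (g * z * g⁻¹) = 2; rw [orderOf_conj]; exact d.inv))
    have hn' : (n : G) * z * (n : G)⁻¹ = g * z * g⁻¹ := congrArg Subtype.val hn
    have hc : (n : G)⁻¹ * g ∈ cent z := by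
      refine mem_cent_of_conj_fix ?_
      calc (n : G)⁻¹ * g * z * ((n : G)⁻¹ * g)⁻¹ = (n : G)⁻¹ * (g * z * g⁻¹) * n := by group
        _ = z := by rw [← hn']; group
    simpa using N.mul_mem n.2 (hCN hc)
  have hodd2 : ∀ y ∈ core z, y ≠ 1 → ∀ s ∈ (S : Subgroup G),
      s * y = y * s → s ∈ A := by
    intro y hy hy1 s hs hsy
    by_contra hsA
    have h2 := d.invK s hs hsA y hy
    rw [hsy, mul_inv_cancel_right] at h2
    refine hy1 (eq_one_of_odd_of_sq (odd_of_mem_core hy) ?_)
    nth_rewrite 1 [h2]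
    exact inv_mul_cancel y
  refine Cfsg.Agent.S0508.result S (Nat.card A) d.two_le_card d.dihedral z d.inv (d.le d.mem)
    (fun s hs => d.central hs) (core z) rfl (fun hO => ?_) (fun s hs hsC y hy => ?_)
    (fun Y hY hY1 => d.normalizer_le hH hY hY1)
  · obtain ⟨y, hy, hy1⟩ := (Subgroup.bot_or_exists_ne_one (core z)).resolve_left hO
    have hA : (S : Subgroup G) ⊓ Subgroup.centralizer (core z : Set G) = A := by
      ext s
      refine ⟨fun hs => hodd2 y hy hy1 s hs.1 ((Subgroup.mem_centralizer_iff.mp hs.2) y hy).symm,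
        fun hs => ⟨d.le hs, Subgroup.mem_centralizer_iff.mpr fun k hk => (d.cen s hs k hk).symm⟩⟩
    obtain ⟨a, ha, hAa⟩ := d.exists_generator
    rw [hA]
    refine ⟨?_, ?_⟩
    · rw [le_antisymm hAa (Subgroup.zpowers_le.mpr ha)]; infer_instance
    · refine Nat.eq_of_mul_eq_mul_left (Nat.card_pos (α := A)) ?_
      rw [mul_comm _ 2, ← d.card_sylow, Subgroup.relIndex,
        ← (A.subgroupOf (S : Subgroup G)).card_mul_index,
        Nat.card_congr (Subgroup.subgroupOfEquivOfLe d.le).toEquiv]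
  · refine d.invK s hs (fun hsA => hsC ?_) y hy
    exact Subgroup.mem_centralizer_iff.mpr fun k hk => (d.cen s hsA k hk).symm

/-- A subgroup of index two is again dihedral without subgroups of index two. -/
theorem dih_index_two [Nontrivial G] (hH : Hyp G) (hsem : Sem G) {S : Sylow 2 G} {A : Subgroup G}
    {z : G} (d : Dih S A z) {M : Subgroup G} [M.Normal] (hM : M.index = 2) :
    ∃ hz : z ∈ M, Dih (sylowInter S M) (A.subgroupOf M) ⟨z, hz⟩ ∧
      ∀ L : Subgroup M, L.index ≠ 2 := by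
  haveI := Fact.mk Nat.prime_two
  have hne : M ≠ ⊥ := by
    intro h
    rw [h, Subgroup.index_bot] at hM
    exact not_isSolvable hsem (by
      haveI := (IsPGroup.of_card (p := 2) (n := 1) (G := G) (by rw [hM, pow_one])).isNilpotent
      infer_instance)
  obtain ⟨hz, hs⟩ := d.exists_out_mem hsem inferInstance hne
  refine ⟨hz, d.restrict hH M hz hs, fun L hL => ?_⟩
  haveI := Subgroup.normal_of_index_eq_two hL
  set K := Subgroup.closure {g : G | g ∈ M ∧ Odd (orderOf g)} with hK
  have hKn := odd_gen_normal (N := M) inferInstance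
  obtain ⟨-, s, hsS, hsK, hsA⟩ :=
    d.exists_out_mem hsem hKn (odd_gen_ne_bot hsem inferInstance hne)
  set L' := L.map M.subtype with hL'
  have hKL : K ≤ L' := odd_gen_le hL
  have hLM : L' ≤ M := Subgroup.map_subtype_le _
  obtain ⟨a, ha, hAa⟩ := d.exists_generator
  have hsq : a * a ∈ L' := by
    refine hKL ?_
    have h := (d.out s hsS hsA).2 a ha
    have e : a * a = a * s * a⁻¹ * s⁻¹ := by
      calc a * a = a * (s * a⁻¹ * s⁻¹) := by
            rw [show s * a⁻¹ * s⁻¹ = (s * a * s⁻¹)⁻¹ by group, h, inv_inv]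
        _ = a * s * a⁻¹ * s⁻¹ := by group
    rw [e]
    exact K.mul_mem (hKn.conj_mem s hsK a) (K.inv_mem hsK)
  -- `a` is outside `M`
  have haM : a ∉ M := by
    intro haM
    refine S.not_dvd_index ((dvd_of_eq hM.symm).trans (Subgroup.index_dvd_of_le fun x hx => ?_))
    by_cases hxA : x ∈ A
    · exact Subgroup.zpowers_le.mpr haM (hAa hxA)
    · obtain ⟨i, hi⟩ := Subgroup.mem_zpowers_iff.mp (hAa (d.prod s hsS x hx hsA hxA))
      have : x = s⁻¹ * a ^ i := by rw [hi]; group
      rw [this]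
      exact M.mul_mem (M.inv_mem (hLM (hKL hsK))) (M.zpow_mem haM i)
  refine (sylowInter S M).not_dvd_index
    ((dvd_of_eq hL.symm).trans (Subgroup.index_dvd_of_le fun u hu => ?_))
  have hu' : (u : G) ∈ (S : Subgroup G) := hu
  have key : ∀ b ∈ A, b ∈ M → b ∈ L' := by
    intro b hb hbM
    obtain ⟨i, rfl⟩ := Subgroup.mem_zpowers_iff.mp (hAa hb)
    rcases Int.even_or_odd i with ⟨j, rfl⟩ | ⟨j, rfl⟩
    · rw [← two_mul, zpow_mul, zpow_two]
      exact L'.zpow_mem hsq j
    · exfalso
      refine haM ?_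
      have h1 : (a ^ (2 : ℤ)) ^ j ∈ M := by
        rw [zpow_two]; exact hLM (L'.zpow_mem hsq j)
      have := M.mul_mem (M.inv_mem h1) hbM
      rwa [← zpow_mul, zpow_add, inv_mul_cancel_left, zpow_one] at this
  have hmem : (u : G) ∈ L' := by
    by_cases huA : (u : G) ∈ A
    · exact key _ huA u.2
    · have h1 := key _ (d.prod s hsS _ hu' hsA huA) (M.mul_mem (hLM (hKL hsK)) u.2)
      simpa using L'.mul_mem (L'.inv_mem (hKL hsK)) h1
  obtain ⟨v, hv, hvu⟩ := hmem
  rwa [← Subtype.ext hvu]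

end CfsgLib.CyclicNorm
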