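import Cfsg.Agent.Lib.CyclicNorm.Abelian

/-!
# Reduction to the dihedral configuration
-/

set_option autoImplicit false
set_option linter.unusedSectionVars false
set_option linter.style.haveILetI false

namespace CfsgLib.CyclicNorm

variable {G : Type*} [Group G] [Finite G]

/-- A Sylow subgroup with an inverted abelian subgroup of index two has a cyclic one. -/
theorem gen_dihedral [Nontrivial G] (hH : Hyp G) (hsem : Sem G) (S : Sylow 2 G) {A : Subgroup G}
    (hAS : A ≤ (S : Subgroup G)) (hcomm : ∀ a ∈ A, ∀ b ∈ A, a * b = b * a)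
    (hbig : ∃ a ∈ A, a * a ≠ 1) (hex : ∃ s ∈ (S : Subgroup G), s ∉ A)
    (hout : ∀ s ∈ (S : Subgroup G), s ∉ A → s * s = 1 ∧ ∀ a ∈ A, s * a * s⁻¹ = a⁻¹)
    (hprod : ∀ s ∈ (S : Subgroup G), ∀ t ∈ (S : Subgroup G), s ∉ A → t ∉ A → s * t ∈ A) :
    ∃ z, Dih S A z := by
  classical
  haveI := Fact.mk Nat.prime_two
  obtain ⟨x, hx, hx2⟩ := hbig
  obtain ⟨z, hzx, hz, -⟩ := big_involution S (hAS hx) hx2
  have hzA : z ∈ A := Subgroup.zpowers_le.mpr hx hzx
  -- the involutions of `A` are central in `S`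
  have hcen : ∀ a ∈ A, a * a = 1 → ∀ s ∈ (S : Subgroup G), s * a = a * s := by
    intro a ha ha2 s hs
    by_cases hsA : s ∈ A
    · exact hcomm s hsA a ha
    · have := (hout s hs hsA).2 a ha
      rw [inv_eq_of_mul_eq_one_right ha2] at this
      exact mul_inv_eq_iff_eq_mul.mp this
  by_cases huniq : ∀ a ∈ A, a * a = 1 → a = 1 ∨ a = z
  · refine ⟨z, ⟨hAS, hzA, hz, huniq, hcomm, hout, hprod, hex, fun s hs hsA k hk => ?_,
      fun a ha y hy => ?_⟩⟩
    · have hso : orderOf s = 2 := orderOf_two_iff.mpr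
        ⟨(hout s hs hsA).1, fun e => hsA (e ▸ A.one_mem)⟩
      refine inverts_odd hH hz hso (mem_cent.mpr (hcen z hzA (orderOf_two_iff.mp hz).1 s hs))
        (fun e => ?_) (core_le z hk) (odd_of_mem_core hk)
      have h1 : x ∈ cent s := e ▸ mem_cent.mpr (hcomm x hx z hzA)
      have h2 := (hout s hs hsA).2 x hx
      rw [← mem_cent.mp h1, mul_inv_cancel_right] at h2
      exact hx2 (by nth_rewrite 1 [h2]; exact inv_mul_cancel x)
    · by_cases ha2 : a * a = 1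
      · rcases huniq a ha ha2 with rfl | rfl
        · rw [one_mul, mul_one]
        · exact (mem_cent.mp (core_le _ hy)).symm
      · obtain ⟨r, hr, hr2, -⟩ := big_involution S (hAS ha) ha2
        have hrz : r = z := (huniq r (Subgroup.zpowers_le.mpr ha hr)
          (orderOf_two_iff.mp hr2).1).resolve_left (orderOf_two_iff.mp hr2).2
        obtain ⟨k, hk⟩ := S.2 ⟨a, hAS ha⟩
        exact big_centralizes hH (k := k) (by simpa using congrArg Subtype.val hk)
          (hrz ▸ hr) hz hy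
  exfalso
  push Not at huniq
  obtain ⟨a', ha'A, ha'2, ha'1, ha'z⟩ := huniq
  by_cases hfus : ∀ s ∈ (S : Subgroup G), s ∉ A → ∀ g : G, g * s * g⁻¹ ∈ (S : Subgroup G) →
      g * s * g⁻¹ ∉ A
  · obtain ⟨M, hMn, T, -, hT, hAM⟩ :=
      exists_normal_of_no_fusion S hAS hprod hex (fun s hs h => (hout s hs h).1) hfus
    haveI := hMn
    have hT' : ∀ u : M, u ∈ (T : Subgroup M) ↔ (u : G) ∈ A := fun u => by
      rw [hT, Subgroup.mem_subgroupOf]
    refine abelian_big (hH.subgroup M) (hsem.subgroup M) T (fun a ha b hb =>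
      Subtype.ext (hcomm _ ((hT' a).mp ha) _ ((hT' b).mp hb))) (x₀ := ⟨x, hAM hx⟩)
      ((hT' _).mpr hx) fun e => hx2 (congrArg Subtype.val e)
  push Not at hfus
  obtain ⟨t, htS, htA, g, -, hgA⟩ := hfus
  obtain ⟨htt, htinv⟩ := hout t htS htA
  have ht : orderOf t = 2 := orderOf_two_iff.mpr ⟨htt, fun e => htA (e ▸ A.one_mem)⟩
  set u := g * t * g⁻¹ with hu
  have hu2 : u * u = 1 := (orderOf_two_iff.mp (show orderOf u = 2 by rw [hu, orderOf_conj]; exact ht)).1
  -- the group generated by `t` and the involutions of `A`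
  have hΩmul : ∀ a ∈ A, a * a = 1 → ∀ b ∈ A, b * b = 1 → a * b ∈ A ∧ (a * b) * (a * b) = 1 := by
    intro a ha ha2 b hb hb2
    refine ⟨A.mul_mem ha hb, ?_⟩
    rw [← pow_two, Commute.mul_pow (hcomm a ha b hb), pow_two, pow_two, ha2, hb2, one_mul]
  have htc : ∀ a ∈ A, a * a = 1 → t * a = a * t := fun a ha ha2 => hcen a ha ha2 t htS
  let E : Subgroup G :=
    { carrier := {e | ∃ a ∈ A, a * a = 1 ∧ (e = a ∨ e = t * a)}
      one_mem' := ⟨1, A.one_mem, one_mul 1, Or.inl rfl⟩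
      mul_mem' := by
        rintro e f ⟨a, ha, ha2, he⟩ ⟨b, hb, hb2, hf⟩
        refine ⟨a * b, (hΩmul a ha ha2 b hb hb2).1, (hΩmul a ha ha2 b hb hb2).2, ?_⟩
        rcases he with rfl | rfl <;> rcases hf with rfl | rfl
        · exact Or.inl rfl
        · exact Or.inr (by rw [← mul_assoc, ← htc _ ha ha2, mul_assoc])
        · exact Or.inr (mul_assoc _ _ _)
        · exact Or.inl (by rw [mul_assoc, ← mul_assoc a, ← htc a ha ha2, mul_assoc t,
            ← mul_assoc, htt, one_mul])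
      inv_mem' := by
        rintro e ⟨a, ha, ha2, he⟩
        have hai : a⁻¹ = a := inv_eq_of_mul_eq_one_right ha2
        refine ⟨a, ha, ha2, ?_⟩
        rcases he with rfl | rfl
        · exact Or.inl hai
        · exact Or.inr (by rw [mul_inv_rev, hai, inv_eq_of_mul_eq_one_right htt, htc a ha ha2]) }
  have hEp : IsPGroup 2 E := by
    rintro ⟨e, a, ha, ha2, he⟩
    refine ⟨1, Subtype.ext ?_⟩
    show e ^ 2 ^ 1 = 1
    rw [pow_one, pow_two]
    rcases he with rfl | rfl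
    · exact ha2
    · rw [mul_assoc, ← mul_assoc a, ← htc a ha ha2, mul_assoc t, ha2, mul_one, htt]
  have hEt : E ≤ cent t := by
    rintro e ⟨a, ha, ha2, rfl | rfl⟩
    · exact mem_cent.mpr (htc _ ha ha2).symm
    · exact mem_cent.mpr (by rw [mul_assoc, ← htc a ha ha2])
  -- a Sylow subgroup of `G` with `t` central containing it
  have hSu : (S : Subgroup G) ≤ cent u := fun s hs => mem_cent.mpr (hcen u hgA hu2 s hs)
  have hgle : ((g⁻¹ • S : Sylow 2 G) : Subgroup G) ≤ cent t := by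
    intro a ha
    rw [Sylow.coe_subgroup_smul, Subgroup.mem_pointwise_smul_iff_inv_smul_mem,
      ← map_inv, MulAut.smul_def, MulAut.conj_apply, inv_inv] at ha
    have := conj_mem_cent (g := g⁻¹) (hSu ha)
    rwa [show g⁻¹ * (g * a * g⁻¹) * g⁻¹⁻¹ = a by group,
      show g⁻¹ * u * g⁻¹⁻¹ = t by rw [hu]; group] at this
  have hEsp : IsPGroup 2 (E.subgroupOf (cent t)) :=
    hEp.comap_of_injective (cent t).subtype (cent t).subtype_injective
  obtain ⟨P, hP⟩ := hEsp.exists_le_sylow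
  obtain ⟨c, hc⟩ := MulAction.exists_smul_eq (cent t) P ((g⁻¹ • S : Sylow 2 G).subtype hgle)
  set m := g * (c : G) with hm
  have hEm : ∀ e ∈ E, m * e * m⁻¹ ∈ (S : Subgroup G) := by
    intro e he
    have h1 : c * ⟨e, hEt he⟩ * c⁻¹ ∈
        ((g⁻¹ • S : Sylow 2 G).subtype hgle : Subgroup (cent t)) := by
      rw [← hc, Sylow.coe_subgroup_smul, Subgroup.mem_pointwise_smul_iff_inv_smul_mem,
        ← map_inv, MulAut.smul_def, MulAut.conj_apply, inv_inv,
        show c⁻¹ * (c * ⟨e, hEt he⟩ * c⁻¹) * c = (⟨e, hEt he⟩ : cent t) by group]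
      exact hP he
    rw [Sylow.coe_subtype, Subgroup.mem_subgroupOf, Sylow.coe_subgroup_smul,
      Subgroup.mem_pointwise_smul_iff_inv_smul_mem, ← map_inv, MulAut.smul_def,
      MulAut.conj_apply, inv_inv] at h1
    simpa [hm, mul_assoc] using h1
  have hmt : m * t * m⁻¹ = u := by
    calc m * t * m⁻¹ = g * ((c : G) * t * (c : G)⁻¹) * g⁻¹ := by rw [hm]; group
      _ = u := by rw [conj_fix_of_mem_cent c.2]
  have hΩE : ∀ a ∈ A, a * a = 1 → a ∈ E := fun a ha ha2 => ⟨a, ha, ha2, Or.inl rfl⟩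
  -- a common involution
  obtain ⟨w, hwA, hw2, hw1, hwA'⟩ : ∃ w ∈ A, w * w = 1 ∧ w ≠ 1 ∧ m * w * m⁻¹ ∈ A := by
    have hzz := (orderOf_two_iff.mp hz).1
    by_cases h1 : m * z * m⁻¹ ∈ A
    · exact ⟨z, hzA, hzz, (orderOf_two_iff.mp hz).2, h1⟩
    by_cases h2 : m * a' * m⁻¹ ∈ A
    · exact ⟨a', ha'A, ha'2, ha'1, h2⟩
    refine ⟨z * a', (hΩmul z hzA hzz a' ha'A ha'2).1, (hΩmul z hzA hzz a' ha'A ha'2).2,
      fun h => ha'z ?_, ?_⟩
    · rw [eq_inv_of_mul_eq_one_right h, inv_eq_of_mul_eq_one_right hzz]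
    · rw [show m * (z * a') * m⁻¹ = (m * z * m⁻¹) * (m * a' * m⁻¹) by group]
      exact hprod _ (hEm _ (hΩE z hzA hzz)) _ (hEm _ (hΩE a' ha'A ha'2)) h1 h2
  have hwo : orderOf w = 2 := orderOf_two_iff.mpr ⟨hw2, hw1⟩
  have hSw : (S : Subgroup G) ≤ cent w := fun s hs => mem_cent.mpr (hcen w hwA hw2 s hs)
  -- an element of order four
  obtain ⟨b, hb⟩ := four_le_order S (hAS hx) hx2
  set y₀ := x ^ 2 ^ b with hy₀
  have hy₀A : y₀ ∈ A := A.pow_mem hx _
  have hy₀2 : orderOf (y₀ * y₀) = 2 := by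
    rw [hy₀, ← pow_add, ← mul_two, ← pow_succ]; exact orderOf_pow_half hb
  set y := m⁻¹ * y₀ * m with hy
  have hyy : orderOf (y * y) = 2 := by
    rw [hy, show m⁻¹ * y₀ * m * (m⁻¹ * y₀ * m) = m⁻¹ * (y₀ * y₀) * m⁻¹⁻¹ by group, orderOf_conj]
    exact hy₀2
  have hy4 : (y * y) * (y * y) = 1 := (orderOf_two_iff.mp hyy).1
  have hyw : y ∈ cent w := by
    have := conj_mem_cent (g := m⁻¹) (mem_cent.mpr (hcomm y₀ hy₀A _ hwA'))
    rwa [show m⁻¹ * (m * w * m⁻¹) * m⁻¹⁻¹ = w by group,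
      show m⁻¹ * y₀ * m⁻¹⁻¹ = y by rw [hy, inv_inv]] at this
  obtain ⟨k, hk, s, hs, hks⟩ := cent_decomp hH hwo S hSw hyw
  -- `y` centralizes every involution of `A`
  have hyΩ : ∀ a ∈ A, a * a = 1 → m * a * m⁻¹ ∈ A := by
    intro a ha ha2
    by_contra hA'
    have h1 := (hout _ (hEm a (hΩE a ha ha2)) hA').2 y₀ hy₀A
    have h2 : y * a * y⁻¹ = y * y * a := by
      have h3 : a * y * a⁻¹ = y⁻¹ := by
        calc a * y * a⁻¹ = m⁻¹ * (m * a * m⁻¹ * y₀ * (m * a * m⁻¹)⁻¹) * m := by rw [hy]; group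
          _ = y⁻¹ := by rw [h1, hy]; group
      calc y * a * y⁻¹ = y * (a * y⁻¹ * a⁻¹) * a := by group
        _ = y * (a * y * a⁻¹)⁻¹ * a := by group
        _ = y * y * a := by rw [h3, inv_inv]
    have h4 : k * a * k⁻¹ * a⁻¹ = y * y := by
      have h5 : s * a * s⁻¹ = a := mul_inv_eq_iff_eq_mul.mpr (hcen a ha ha2 s hs)
      calc k * a * k⁻¹ * a⁻¹ = k * (s * a * s⁻¹) * k⁻¹ * a⁻¹ := by rw [h5]
        _ = (y * a * y⁻¹) * a⁻¹ := by rw [← hks]; group
        _ = y * y := by rw [h2]; group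
    have h6 : y * y ∈ core w := by
      rw [← h4, show k * a * k⁻¹ * a⁻¹ = k * (a * k⁻¹ * a⁻¹) by group]
      exact (core w).mul_mem hk (conj_mem_core (hSw (hAS ha)) ((core w).inv_mem hk))
    exact (orderOf_two_iff.mp hyy).2 (eq_one_of_mem_core_of_two h6 (k := 1)
      (by rw [pow_one, pow_two]; exact hy4))
  -- too many involutions
  let Om := {a : G // a ∈ A ∧ a * a = 1}
  have hconj : ∀ a : G, a * a = 1 → m * a * m⁻¹ * (m * a * m⁻¹) = 1 := fun a ha => by
    rw [show m * a * m⁻¹ * (m * a * m⁻¹) = m * (a * a) * m⁻¹ by group, ha]; group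
  let f : Om ⊕ Om → Om := fun p => p.elim
    (fun a => ⟨m * a.1 * m⁻¹, hyΩ a.1 a.2.1 a.2.2, hconj _ a.2.2⟩)
    (fun a => ⟨m * (t * a.1) * m⁻¹, by
      rw [show m * (t * a.1) * m⁻¹ = (m * t * m⁻¹) * (m * a.1 * m⁻¹) by group, hmt]
      exact A.mul_mem hgA (hyΩ a.1 a.2.1 a.2.2), hconj _ (by
        rw [mul_assoc, ← mul_assoc a.1, ← htc _ a.2.1 a.2.2, mul_assoc t, a.2.2, mul_one, htt])⟩)
  have hf : Function.Injective f := by
    rintro (a | a) (b | b) e <;>
      have e' := mul_left_cancel (mul_right_cancel (congrArg Subtype.val e :))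
    · exact congrArg Sum.inl (Subtype.ext e')
    · exact absurd (by rw [eq_mul_inv_of_mul_eq e'.symm]; exact A.mul_mem a.2.1 (A.inv_mem b.2.1)) htA
    · exact absurd (by rw [eq_mul_inv_of_mul_eq e']; exact A.mul_mem b.2.1 (A.inv_mem a.2.1)) htA
    · exact congrArg Sum.inr (Subtype.ext (mul_left_cancel e'))
  have h := Nat.card_le_card_of_injective f hf
  rw [Nat.card_sum] at h
  have : 0 < Nat.card Om := Nat.card_pos_iff.mpr ⟨⟨⟨1, A.one_mem, one_mul 1⟩⟩, inferInstance⟩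
  omega

end CfsgLib.CyclicNorm
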