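import Cfsg.Agent.Lib.CyclicNorm.Dihedral
import Cfsg.Agent.Lib.AutPSL.Structure
import Cfsg.Agent.Lib.SL2.PGLMax.Embed

/-!
# A normal subgroup `PSL(2, q)` of index two forces `PGL(2, q)`
-/

set_option autoImplicit false
set_option linter.unusedSectionVars false
set_option linter.style.haveILetI false

namespace CfsgLib.CyclicNorm

open Matrix CfsgLib.AutPSL
open scoped MatrixGroups

section Field

variable {F : Type*} [Field F]

/-- The diagonal matrix `diag (a, b)`. -/
abbrev dg (a b : Fˣ) : GL (Fin 2) F := diagGL ![a, b]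

theorem dg_mul (a b c d : Fˣ) : dg a b * dg c d = dg (a * c) (b * d) := by
  apply Units.ext
  show Matrix.diagonal _ * Matrix.diagonal _ = Matrix.diagonal _
  rw [Matrix.diagonal_mul_diagonal]
  congr 1
  funext i
  fin_cases i <;> simp

theorem delta_scalar (a : Fˣ) : (delta (dg a a) : MulAut PSL(2, F)) = 1 := by
  refine delta_eq_one_of_mem_center (Subgroup.mem_center_iff.mpr fun g => Units.ext ?_)
  have h : ((dg a a : GL (Fin 2) F) : Matrix (Fin 2) (Fin 2) F) = Matrix.scalar (Fin 2) (a : F) := by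
    show Matrix.diagonal _ = _
    rw [Matrix.scalar_apply]
    congr 1
    funext i
    fin_cases i <;> simp
  rw [Units.val_mul, Units.val_mul, h]
  exact ((Matrix.scalar_commute (a : F) (fun r => Commute.all _ _) _).eq).symm

theorem delta_dg_congr {a b c d : Fˣ} (h : a * d = b * c) :
    (delta (dg a b) : MulAut PSL(2, F)) = delta (dg c d) := by
  have e : b = a * c⁻¹ * d := by
    rw [mul_right_comm, h, mul_inv_cancel_right]
  rw [show dg a b = dg (a * c⁻¹) (a * c⁻¹) * dg c d by rw [dg_mul, inv_mul_cancel_right, ← e],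
    map_mul, delta_scalar, one_mul]

/-- The diagonal matrix of determinant one. -/
def sd (a : Fˣ) : SL(2, F) :=
  ⟨!![(a : F), 0; 0, ((a⁻¹ : Fˣ) : F)], by simp [Matrix.det_fin_two]⟩

theorem toGL_sd (a : Fˣ) : Matrix.SpecialLinearGroup.toGL (sd a) = dg a a⁻¹ := by
  apply Units.ext
  show (sd a : Matrix (Fin 2) (Fin 2) F) = Matrix.diagonal _
  ext i j
  fin_cases i <;> fin_cases j <;> simp [sd]

theorem mapGL_dg (σ : F ≃+* F) (a b : Fˣ) :
    mapGL σ (dg a b) = dg (Units.map σ.toMonoidHom a) (Units.map σ.toMonoidHom b) := by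
  apply Units.ext
  show (Matrix.diagonal _).map σ = Matrix.diagonal _
  rw [Matrix.diagonal_map (map_zero σ)]
  congr 1
  funext i
  fin_cases i <;> simp

theorem exchange_mul_dg (a b : Fˣ) : exchange F * dg a b = dg b a * exchange F := by
  apply Units.ext
  show (exchange F : Matrix (Fin 2) (Fin 2) F) * Matrix.diagonal _ =
    Matrix.diagonal _ * (exchange F : Matrix (Fin 2) (Fin 2) F)
  ext i j
  fin_cases i <;> fin_cases j <;> simp [exchange]

theorem mapGL_exchange (σ : F ≃+* F) : mapGL σ (exchange F) = exchange F := by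
  apply Units.ext
  show (exchange F : Matrix (Fin 2) (Fin 2) F).map σ = (exchange F : Matrix (Fin 2) (Fin 2) F)
  ext i j
  fin_cases i <;> fin_cases j <;> simp [exchange]

theorem exchange_sq : exchange F * exchange F = dg (-1) (-1) := by
  apply Units.ext
  show (exchange F : Matrix (Fin 2) (Fin 2) F) * (exchange F : Matrix (Fin 2) (Fin 2) F) =
    Matrix.diagonal _
  ext i j
  fin_cases i <;> fin_cases j <;> simp [exchange, Matrix.mul_apply, Fin.sum_univ_two]

/-- The exchange matrix in `SL(2, F)`. -/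
def exchangeSL : SL(2, F) := ⟨!![0, 1; -1, 0], by simp [Matrix.det_fin_two]⟩

theorem toGL_exchangeSL :
    Matrix.SpecialLinearGroup.toGL (exchangeSL : SL(2, F)) = exchange F :=
  Units.ext rfl

variable (p : ℕ) [hp : Fact p.Prime] [CharP F p] [Finite F]

include hp in
theorem dg_eq_of_delta {a b c d : Fˣ} (h : (delta (dg a b) : MulAut PSL(2, F)) = delta (dg c d)) :
    a * d = b * c := by
  have h1 : (delta (dg (a * c⁻¹) (b * d⁻¹)) * fieldAut (1 : F ≃+* F) : MulAut PSL(2, F)) = 1 := by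
    rw [map_one, mul_one, ← dg_mul, map_mul, h, ← map_mul, dg_mul, mul_inv_cancel, mul_inv_cancel,
      delta_scalar]
  have h2 := Subgroup.mem_center_iff.mp (mem_center_of_delta_fieldAut p le_rfl h1).1 (exchange F)
  rw [exchange_mul_dg] at h2
  have h3 := mul_right_cancel h2
  have h4 := congrArg (fun g : GL (Fin 2) F => (g : Matrix (Fin 2) (Fin 2) F) 0 0) h3
  have h5 : b * d⁻¹ = a * c⁻¹ := by
    apply Units.ext
    simpa [diagGL] using h4
  calc a * d = a * c⁻¹ * c * d := by group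
    _ = b * d⁻¹ * c * d := by rw [h5]
    _ = b * c := by rw [mul_comm (b * d⁻¹) c, mul_assoc, inv_mul_cancel_right, mul_comm]

/-- A field automorphism fixing all squares is trivial. -/
theorem ringAut_eq_one_of_squares {σ : F ≃+* F} (h2 : (2 : F) ≠ 0)
    (h : ∀ u : F, σ (u * u) = u * u) : σ = 1 := by
  refine RingEquiv.ext fun u => ?_
  have e := h (1 + u)
  rw [map_mul, map_add, map_one] at e
  have e' := h u
  rw [map_mul] at e'
  show σ u = u
  have : (2 : F) * (σ u - u) = 0 := by linear_combination e - e'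
  exact sub_eq_zero.mp ((mul_eq_zero.mp this).resolve_left h2)

end Field

variable {G : Type*} [Group G] [Finite G]

/-- The structure of the centralizer of the central involution. -/
theorem Dih.cent_split {S : Sylow 2 G} {A : Subgroup G} {z : G} (d : Dih S A z) (hH : Hyp G) :
    ∃ P : G → Prop, (∀ c ∈ cent z, ¬ P c → c * c = 1) ∧ (∀ a b, P a → P b → a * b = b * a) ∧
      (∀ a ∈ cent z, ∀ b ∈ cent z, ¬ P a → ¬ P b → P (a * b)) ∧
      (∀ a, P a → a * a = 1 → a = 1 ∨ a = z) := by
  refine ⟨fun c => ∃ k ∈ core z, ∃ a ∈ A, c = k * a, ?_, ?_, ?_, ?_⟩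
  · intro c hc hP
    obtain ⟨k, hk, s, hs, rfl⟩ := cent_decomp hH d.inv S d.le_cent hc
    have hsA : s ∉ A := fun h => hP ⟨k, hk, s, h, rfl⟩
    have h1 := d.invK s hs hsA k hk
    calc k * s * (k * s) = k * (s * k * s⁻¹) * (s * s) := by group
      _ = 1 := by rw [h1, (d.out s hs hsA).1, mul_inv_cancel, one_mul]
  · rintro _ _ ⟨k, hk, a, ha, rfl⟩ ⟨l, hl, b, hb, rfl⟩
    calc k * a * (l * b) = k * (a * l) * b := by group
      _ = k * l * (a * b) := by rw [d.cen a ha l hl]; group
      _ = l * k * (b * a) := by rw [d.core_comm hk hl, d.comm a ha b hb]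
      _ = l * (k * b) * a := by group
      _ = l * b * (k * a) := by rw [← d.cen b hb k hk]; group
  · intro x hx y hy hPx hPy
    obtain ⟨k, hk, s, hs, rfl⟩ := cent_decomp hH d.inv S d.le_cent hx
    obtain ⟨l, hl, t, ht, rfl⟩ := cent_decomp hH d.inv S d.le_cent hy
    have hsA : s ∉ A := fun h => hPx ⟨k, hk, s, h, rfl⟩
    have htA : t ∉ A := fun h => hPy ⟨l, hl, t, h, rfl⟩
    refine ⟨k * l⁻¹, (core z).mul_mem hk ((core z).inv_mem hl), s * t, d.prod s hs t ht hsA htA, ?_⟩
    rw [← d.invK s hs hsA l hl]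
    group
  · rintro _ ⟨k, hk, a, ha, rfl⟩ h2
    have e : k * k * (a * a) = 1 := by
      rw [← h2]
      calc k * k * (a * a) = k * (k * a) * a := by group
        _ = k * (a * k) * a := by rw [d.cen a ha k hk]
        _ = k * a * (k * a) := by group
    obtain ⟨n, hn⟩ := S.2 ⟨a * a, d.le (A.mul_mem ha ha)⟩
    have hn' : (a * a) ^ 2 ^ n = 1 := by simpa using congrArg Subtype.val hn
    have hk1 : k = 1 := by
      have h3 : (k * k) ^ 2 ^ n = 1 := by
        rw [eq_inv_of_mul_eq_one_left e, inv_pow, hn', inv_one]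
      rw [← pow_two, ← pow_mul, ← pow_succ'] at h3
      exact eq_one_of_mem_core_of_two hk h3
    rw [hk1, one_mul] at h2 ⊢
    exact d.uniq a ha h2

/-- A normal subgroup `PSL(2, q)` of index two forces `PGL(2, q)`. -/
theorem pgl_of_index_two [Nontrivial G] (hH : Hyp G) (hsem : Sem G) {S : Sylow 2 G}
    {A : Subgroup G} {z : G} (d : Dih S A z) {M : Subgroup G} [M.Normal] (hM : M.index = 2)
    {F : Type} [Field F] [Fintype F] (hodd : Odd (Fintype.card F))
    (e : M ≃* PSL(2, F)) :
    Nonempty (G ≃* Matrix.ProjGenLinGroup (Fin 2) F) := by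
  classical
  obtain ⟨p, hpF⟩ := CharP.exists F
  obtain ⟨f, hpp, hf⟩ := FiniteField.card F p
  haveI : Fact p.Prime := ⟨hpp⟩
  haveI := CfsgLib.SL2.PGLMax.finite_pgl (F := F)
  have hp2 : p ≠ 2 := fun h => Nat.not_even_iff_odd.mpr hodd
    (even_iff_two_dvd.mpr (by rw [hf, h]; exact dvd_pow_self 2 f.pos.ne'))
  have h2F : (2 : F) ≠ 0 := fun h => hp2 (((Nat.prime_dvd_prime_iff_eq hpp Nat.prime_two).mp
    ((CharP.cast_eq_zero_iff F p 2).mp (by exact_mod_cast h))))
  -- the embedding
  set Φ : G →* MulAut PSL(2, F) := (MulAut.congr e).toMonoidHom.comp MulAut.conjNormal with hΦ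
  have hΦe : ∀ (g : G) (m : M), Φ g (e m) = e (MulAut.conjNormal g m) := fun g m => by
    show e (MulAut.conjNormal g (e.symm (e m))) = _
    rw [e.symm_apply_apply]
  have hΦM : ∀ (m : M) (s : SL(2, F)), e m = mkP s →
      Φ m = delta (Matrix.SpecialLinearGroup.toGL s) := by
    intro m s hs
    refine mulAut_ext fun r => ?_
    obtain ⟨r', hr'⟩ := e.surjective (mkP r)
    rw [show (r : PSL(2, F)) = e r' from hr'.symm, hΦe,
      show MulAut.conjNormal (m : G) r' = m * r' * m⁻¹ from Subtype.ext (MulAut.conjNormal_apply _ _),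
      map_mul, map_mul, map_inv, hs, hr', ← map_inv, ← map_mul, ← map_mul]
    rfl
  have hrange : ∀ s : SL(2, F), ∃ m : M, Φ m = delta (Matrix.SpecialLinearGroup.toGL s) := by
    intro s
    obtain ⟨m, hm⟩ := e.surjective (mkP s)
    exact ⟨m, hΦM m s hm⟩
  have hcompM : ∀ m : M, componentTwo p (Φ m) = 1 := by
    intro m
    obtain ⟨s, hs⟩ := QuotientGroup.mk_surjective (e m)
    rw [hΦM m s hs.symm, ← mul_one (delta _), ← map_one fieldAut, componentTwo_eq]
  have hΦinj : Function.Injective Φ := by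
    rw [← MonoidHom.ker_eq_bot_iff]
    set C := Φ.ker
    have hCM : ∀ c ∈ C, c ∈ M → c = 1 := by
      intro c hc hcM
      have h1 : Subgroup.center M = ⊥ := hsem.subgroup M _ inferInstance
        (Group.isSolvable_of_comm fun a b => Subtype.ext (Subgroup.mem_center_iff.mp b.2 a))
      have h2 : (⟨c, hcM⟩ : M) ∈ Subgroup.center M := Subgroup.mem_center_iff.mpr fun r => by
        have h3 : Φ c (e r) = e r := by rw [MonoidHom.mem_ker.mp hc, MulAut.one_apply]
        rw [hΦe] at h3
        have h4 := congrArg Subtype.val (e.injective h3)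
        rw [MulAut.conjNormal_apply] at h4
        exact Subtype.ext (mul_inv_eq_iff_eq_mul.mp h4).symm
      rw [h1, Subgroup.mem_bot] at h2
      exact congrArg Subtype.val h2
    refine hsem C inferInstance (Group.isSolvable_of_comm fun a b => ?_)
    by_cases ha : (a : G) ∈ M
    · rw [Subtype.ext (hCM a a.2 ha) (a2 := (1 : C)), one_mul, mul_one]
    by_cases hb : (b : G) ∈ M
    · rw [Subtype.ext (hCM b b.2 hb) (a2 := (1 : C)), one_mul, mul_one]
    have h1 : (a : G)⁻¹ * b ∈ M := (Subgroup.mul_mem_iff_of_index_two hM).mpr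
      (iff_of_false (fun h => ha (by simpa using M.inv_mem h)) hb)
    rw [Subtype.ext (inv_mul_eq_one.mp (hCM _ (C.mul_mem (C.inv_mem a.2) b.2) h1)) (a2 := b)]
  have hcardG : Nat.card G = Nat.card (Matrix.ProjGenLinGroup (Fin 2) F) := by
    rw [← M.card_mul_index, hM, Nat.card_congr e.toEquiv,
      ← CfsgLib.SL2.PGLMax.card_LL (by rwa [Nat.card_eq_fintype_card]), mul_comm]
    congr 1
    exact Nat.card_congr (MonoidHom.ofInjective
      (ProjectiveSpecialLinearGroup.toPGL_injective (n := Fin 2) (R := F))).toEquiv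
  by_cases htriv : ∀ g : G, componentTwo p (Φ g) = 1
  · have hle : Φ.range ≤ (deltaP : ProjGenLinGroup (Fin 2) F →* MulAut PSL(2, F)).range := by
      rw [range_deltaP, ← ker_componentTwo p]
      rintro _ ⟨g, rfl⟩
      exact htriv g
    have heq := Subgroup.eq_of_le_of_card_ge hle (le_of_eq (by
      rw [← Nat.card_congr (MonoidHom.ofInjective (deltaP_injective p le_rfl)).toEquiv,
        ← Nat.card_congr (MonoidHom.ofInjective hΦinj).toEquiv, hcardG]))
    exact ⟨(MonoidHom.ofInjective hΦinj).trans ((MulEquiv.subgroupCongr heq).trans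
      (MonoidHom.ofInjective (deltaP_injective p le_rfl)).symm)⟩
  exfalso
  push Not at htriv
  obtain ⟨g₀, hg₀⟩ := htriv
  obtain ⟨γ, σ, hγ⟩ := exists_normal_form_two p (Φ g₀)
  have hσ1 : σ ≠ 1 := fun h => hg₀ (by rw [hγ, componentTwo_eq, h])
  have hσ2 : σ * σ = 1 := by
    have h := hcompM ⟨g₀ * g₀, Subgroup.mul_self_mem_of_index_two hM g₀⟩
    change componentTwo p (Φ (g₀ * g₀)) = 1 at h
    rwa [map_mul, map_mul, hγ, componentTwo_eq] at h
  -- the field has at least nine elements and a square root of `-1`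
  have hfeven : 2 ∣ (f : ℕ) := by
    rw [← (card_ringAut_isCyclic hf f.pos).2]
    rw [← orderOf_eq_prime (p := 2) (by rw [pow_two, hσ2]) hσ1]
    exact orderOf_dvd_natCard σ
  obtain ⟨f', hf'⟩ := hfeven
  have hq9 : 9 ≤ Fintype.card F := by
    have h1 : 3 ≤ p := by have := hpp.two_le; omega
    have h2 : 2 ≤ (f : ℕ) := by have := f.pos; omega
    rw [hf]
    calc 9 = 3 ^ 2 := by norm_num
      _ ≤ p ^ 2 := Nat.pow_le_pow_left h1 2
      _ ≤ p ^ (f : ℕ) := Nat.pow_le_pow_right hpp.pos h2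
  obtain ⟨i₀, hi₀⟩ : IsSquare (-1 : F) := by
    rw [FiniteField.isSquare_neg_one_iff, hf, hf', pow_mul]
    rw [Nat.pow_mod, Nat.pow_mod p 2]
    have h1 : p % 2 = 1 := Nat.odd_iff.mp (hpp.odd_of_ne_two hp2)
    have : (p % 4) ^ 2 % 4 = 1 := by
      rcases (show p % 4 = 1 ∨ p % 4 = 3 by omega) with h | h <;> simp [h]
    rw [this]
    simp
  have hi0 : i₀ ≠ 0 := fun h => by rw [h, mul_zero] at hi₀; exact neg_ne_zero.mpr one_ne_zero hi₀
  set i : Fˣ := Units.mk0 i₀ hi0 with hi
  have hii : i * i = -1 := Units.ext (by simp [hi, ← hi₀])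
  have hne1 : (-1 : Fˣ) ≠ 1 := fun h => h2F (by
    have h' : (-1 : F) = 1 := by simpa using congrArg Units.val h
    linear_combination -h')
  -- a generator
  obtain ⟨ν, hν⟩ := IsCyclic.exists_generator (α := Fˣ)
  have hνord : orderOf ν = Fintype.card F - 1 := by
    rw [orderOf_eq_card_of_forall_mem_zpowers hν, Nat.card_eq_fintype_card, Fintype.card_units]
  have hν4 : ν * ν * (ν * ν) ≠ 1 := fun h => by
    have := Nat.le_of_dvd (by norm_num) (orderOf_dvd_of_pow_eq_one (x := ν) (n := 4) (by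
      rw [← h]; simp [pow_succ, mul_assoc]))
    omega
  set σu : Fˣ →* Fˣ := Units.map σ.toMonoidHom with hσu
  have hσν : σu ν * σu ν ≠ ν * ν := by
    intro h
    refine hσ1 (ringAut_eq_one_of_squares h2F fun u => ?_)
    by_cases hu : u = 0
    · simp [hu]
    obtain ⟨k, hk⟩ := Subgroup.mem_zpowers_iff.mp (hν (Units.mk0 u hu))
    have h1 : σu (ν ^ k * ν ^ k) = ν ^ k * ν ^ k := by
      rw [map_mul, map_zpow, ← mul_zpow, h, mul_zpow]
    rw [hk] at h1
    exact congrArg Units.val h1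
  -- a transported structure of the centralizer of an involution
  obtain ⟨hzM, dM, hnoM⟩ := dih_index_two hH hsem d hM
  haveI : Nontrivial M := ⟨⟨z, hzM⟩, 1, fun h => d.z_ne (congrArg Subtype.val h)⟩
  obtain ⟨tm, htm⟩ := e.surjective (mkP (sd i))
  have hΦt : Φ tm = delta (dg i i⁻¹) := by rw [hΦM tm _ htm, toGL_sd]
  have hinvI : i⁻¹ = -i := inv_eq_of_mul_eq_one_right (by rw [mul_neg, hii, neg_neg])
  have htm2 : orderOf tm = 2 := by
    refine orderOf_two_iff.mpr ⟨Subtype.ext (hΦinj ?_), fun h => ?_⟩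
    · rw [Subgroup.coe_mul, map_mul, hΦt, ← map_mul, dg_mul, Subgroup.coe_one, map_one,
        delta_dg_congr (c := 1) (d := 1) (by rw [mul_one, mul_one, ← _root_.mul_inv_rev, hii]; simp),
        delta_scalar]
    · have h1 : (delta (dg i i⁻¹) : MulAut PSL(2, F)) = delta (dg 1 1) := by
        rw [← hΦt, h, Subgroup.coe_one, map_one, delta_scalar]
      have h2 := dg_eq_of_delta p h1
      rw [mul_one, mul_one, hinvI] at h2
      refine hne1 (mul_left_cancel (a := i) ?_)
      rw [mul_neg, mul_one]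
      exact h2.symm
  obtain ⟨c, hc⟩ := isConj_iff.mp (one_class (hsem.subgroup M) dM hnoM ⟨z, hzM⟩ tm
    (by rw [← Subgroup.orderOf_coe]; exact d.inv) htm2)
  have hct : (c : G) * z * (c : G)⁻¹ = tm := congrArg Subtype.val hc
  obtain ⟨P₀, hP1, hP2, hP3, hP4⟩ := d.cent_split hH
  set t : G := (tm : G) with ht
  have htr : ∀ x : G, x ∈ cent t → (c : G)⁻¹ * x * c ∈ cent z := by
    intro x hx
    have := conj_mem_cent (g := (c : G)⁻¹) hx
    rwa [← hct, show (c : G)⁻¹ * ((c : G) * z * (c : G)⁻¹) * (c : G)⁻¹⁻¹ = z by group, inv_inv]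
      at this
  let P : G → Prop := fun x => P₀ ((c : G)⁻¹ * x * c)
  have hPbig : ∀ x ∈ cent t, x * x ≠ 1 → P x := by
    intro x hx hx2
    by_contra hP
    refine hx2 ?_
    have h := hP1 _ (htr x hx) hP
    rw [show (c : G)⁻¹ * x * c * ((c : G)⁻¹ * x * c) = (c : G)⁻¹ * (x * x) * (c : G)⁻¹⁻¹ by group]
      at h
    exact conj_eq_one_iff.mp h
  have hPcomm : ∀ x y : G, P x → P y → x * y = y * x := by
    intro x y hx hy
    have h := hP2 _ _ hx hy
    calc x * y = (c : G) * ((c : G)⁻¹ * x * c * ((c : G)⁻¹ * y * c)) * (c : G)⁻¹ := by group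
      _ = (c : G) * ((c : G)⁻¹ * y * c * ((c : G)⁻¹ * x * c)) * (c : G)⁻¹ := by rw [h]
      _ = y * x := by group
  -- elements with known images
  obtain ⟨xm, hxm⟩ := hrange (sd ν)
  rw [toGL_sd] at hxm
  set x : G := (xm : G)
  have hxt : x ∈ cent t := mem_cent.mpr (hΦinj (by
    rw [map_mul, map_mul, hxm, hΦt, ← map_mul, ← map_mul, dg_mul, dg_mul, mul_comm ν i,
      mul_comm ν⁻¹ i⁻¹]))
  have hx2 : x * x ≠ 1 := by
    intro h
    have h1 : (delta (dg (ν * ν) (ν⁻¹ * ν⁻¹)) : MulAut PSL(2, F)) = delta (dg 1 1) := by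
      rw [← dg_mul, map_mul, ← hxm, ← map_mul, h, map_one, delta_scalar]
    have h2 := dg_eq_of_delta p h1
    rw [mul_one, mul_one] at h2
    refine hν4 ?_
    nth_rewrite 1 [h2]
    group
  have hPx : P x := hPbig x hxt hx2
  -- split off the determinant
  set c₀ : Fˣ := Matrix.GeneralLinearGroup.det γ with hc₀
  obtain ⟨sm, hsm⟩ : ∃ m : M, Φ m = delta (γ * (dg c₀ 1)⁻¹) := by
    have hdet : ((γ * (dg c₀ 1)⁻¹ : GL (Fin 2) F) : Matrix (Fin 2) (Fin 2) F).det = 1 := by
      have h1 : Matrix.GeneralLinearGroup.det (dg c₀ 1) = c₀ := by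
        apply Units.ext
        show (Matrix.diagonal _).det = (c₀ : F)
        rw [Matrix.det_diagonal, Fin.prod_univ_two]
        simp
      have h2 : Matrix.GeneralLinearGroup.det (γ * (dg c₀ 1)⁻¹) = 1 := by
        rw [map_mul, map_inv, h1, ← hc₀, mul_inv_cancel]
      exact congrArg Units.val h2
    obtain ⟨m, hm⟩ := hrange ⟨_, hdet⟩
    exact ⟨m, hm.trans (congrArg delta (Units.ext rfl))⟩
  set b₀ : G := (sm : G)⁻¹ * g₀ with hb₀
  have hΦb₀ : Φ b₀ = delta (dg c₀ 1) * fieldAut σ := by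
    rw [hb₀, map_mul, map_inv, hsm, hγ, ← mul_assoc, ← map_inv, ← map_mul, _root_.mul_inv_rev, inv_inv,
      mul_assoc, inv_mul_cancel, mul_one]
  obtain ⟨k, hk⟩ := Subgroup.mem_zpowers_iff.mp (hν c₀)
  have hsq : ∀ a : Fˣ, ∃ m : M, Φ m = delta (dg (a * a) 1) := by
    intro a
    obtain ⟨m, hm⟩ := hrange (sd a)
    exact ⟨m, by rw [hm, toGL_sd]; exact delta_dg_congr (by rw [mul_one, ← mul_assoc,
      inv_mul_cancel, one_mul])⟩
  have hmap_i : σu i = i ∨ σu i = -i := by
    have h : ((σu i : Fˣ) : F) * (σu i : Fˣ) = (i : F) * i := by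
      show σ i₀ * σ i₀ = i₀ * i₀
      rw [← map_mul, ← hi₀, map_neg, map_one]
    rcases mul_self_eq_mul_self_iff.mp h with h | h
    · exact Or.inl (Units.ext h)
    · exact Or.inr (Units.ext (by rw [h]; simp))
  have hfix : (fieldAut σ : MulAut PSL(2, F)) * delta (dg i i⁻¹) = delta (dg i i⁻¹) * fieldAut σ := by
    rw [fieldAut_mul_delta, mapGL_dg]
    congr 1
    refine delta_dg_congr ?_
    show σu i * i⁻¹ = σu i⁻¹ * i
    rw [map_inv]
    rcases hmap_i with h | h <;> rw [h]
    · rw [mul_inv_cancel, inv_mul_cancel]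
    · rw [neg_mul, mul_inv_cancel, inv_neg, neg_mul, inv_mul_cancel]
  rcases Int.even_or_odd k with ⟨j, rfl⟩ | ⟨j, rfl⟩
  · -- the field automorphism itself lies in the group
    obtain ⟨a, ha⟩ := hsq (ν ^ j)
    obtain ⟨s, hΦs⟩ : ∃ s : G, Φ s = fieldAut σ := by
      refine ⟨(a : G)⁻¹ * b₀, ?_⟩
      rw [map_mul, map_inv, ha, hΦb₀, ← hk, _root_.zpow_add,
        inv_mul_cancel_left]
    obtain ⟨wm, hwm⟩ := hrange (exchangeSL : SL(2, F))
    rw [toGL_exchangeSL] at hwm
    set w : G := (wm : G)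
    have hst : s ∈ cent t := mem_cent.mpr (hΦinj (by rw [map_mul, map_mul, hΦs, hΦt, hfix]))
    have hwt : w ∈ cent t := mem_cent.mpr (hΦinj (by
      rw [map_mul, map_mul, hwm, hΦt, ← map_mul, exchange_mul_dg, map_mul,
        delta_dg_congr (a := i⁻¹) (b := i) (c := i) (d := i⁻¹) (by
          rw [← _root_.mul_inv_rev, hii]; simp)]))
    have hsP : ¬ P s := by
      intro h
      have h1 := congrArg Φ (hPcomm s x h hPx)
      rw [map_mul, map_mul, hΦs, hxm, fieldAut_mul_delta, mul_left_inj, mapGL_dg] at h1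
      have h2 := dg_eq_of_delta p h1
      refine hσν ?_
      change σu ν * ν⁻¹ = σu ν⁻¹ * ν at h2
      rw [map_inv] at h2
      calc σu ν * σu ν = σu ν * ν⁻¹ * ν * σu ν := by group
        _ = (σu ν)⁻¹ * ν * ν * σu ν := by rw [h2]
        _ = ν * ν := by rw [mul_comm _ (σu ν), ← mul_assoc, ← mul_assoc, mul_inv_cancel, one_mul]
    have hwP : ¬ P w := by
      intro h
      have h1 := congrArg Φ (hPcomm w x h hPx)
      rw [map_mul, map_mul, hwm, hxm, ← map_mul, exchange_mul_dg, map_mul, mul_left_inj] at h1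
      have h2 := dg_eq_of_delta p h1
      refine hν4 ?_
      calc ν * ν * (ν * ν) = ν * ν * (ν⁻¹ * ν⁻¹) := by rw [h2]
        _ = 1 := by group
    have hswP : P (s * w) := by
      have h := hP3 _ (htr s hst) _ (htr w hwt) hsP hwP
      show P₀ _
      rwa [show (c : G)⁻¹ * (s * w) * c = (c : G)⁻¹ * s * c * ((c : G)⁻¹ * w * c) by group]
    have hsw2 : s * w * (s * w) = 1 := by
      refine hΦinj ?_
      rw [map_mul, map_mul, hΦs, hwm, map_one, mul_assoc, ← mul_assoc (delta (exchange F)),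
        ← mapGL_exchange σ, ← fieldAut_mul_delta, mapGL_exchange, mul_assoc (fieldAut σ) (delta _),
        ← map_mul delta, exchange_sq, delta_scalar, mul_one, ← map_mul, hσ2, map_one]
    rcases hP4 _ hswP (by
      rw [show (c : G)⁻¹ * (s * w) * c * ((c : G)⁻¹ * (s * w) * c)
        = (c : G)⁻¹ * (s * w * (s * w)) * c by group, hsw2]; group) with h | h
    · have h1 : s * w = 1 := by
        calc s * w = (c : G) * ((c : G)⁻¹ * (s * w) * c) * (c : G)⁻¹ := by group
          _ = 1 := by rw [h]; group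
      have h2 := congrArg (fun g => componentTwo p (Φ g)) h1
      simp only [map_mul, map_one] at h2
      rw [hcompM wm, mul_one, hΦs, ← one_mul (fieldAut σ), ← map_one delta, componentTwo_eq] at h2
      exact hσ1 h2
    · have h1 : s * w = t := by
        calc s * w = (c : G) * ((c : G)⁻¹ * (s * w) * c) * (c : G)⁻¹ := by group
          _ = t := by rw [h, hct]
      have h2 := congrArg (fun g => componentTwo p (Φ g)) h1
      simp only [map_mul] at h2
      rw [hcompM wm, hcompM tm, mul_one, hΦs, ← one_mul (fieldAut σ), ← map_one delta,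
        componentTwo_eq] at h2
      exact hσ1 h2
  · -- a nonsquare times the field automorphism
    obtain ⟨a, ha⟩ := hsq (ν ^ j)
    obtain ⟨b, hΦb⟩ : ∃ b : G, Φ b = delta (dg ν 1) * fieldAut σ := by
      refine ⟨(a : G)⁻¹ * b₀, ?_⟩
      rw [map_mul, map_inv, ha, hΦb₀, ← mul_assoc, ← map_inv,
        ← map_mul, ← hk]
      congr 2
      rw [inv_mul_eq_iff_eq_mul, dg_mul, mul_one, _root_.zpow_add, zpow_one, two_mul, _root_.zpow_add]
    have hbt : b ∈ cent t := mem_cent.mpr (hΦinj (by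
      rw [map_mul, map_mul, hΦb, hΦt, mul_assoc, hfix, ← mul_assoc, ← mul_assoc, ← map_mul,
        ← map_mul, dg_mul, dg_mul, mul_comm ν i, one_mul, mul_one]))
    have hb2 : b * b ≠ 1 := by
      intro h
      have h1 : (delta (dg (ν * σu ν) 1) : MulAut PSL(2, F)) = delta (dg 1 1) := by
        have h2 := congrArg Φ h
        rw [map_mul, hΦb, map_one, mul_assoc, ← mul_assoc (fieldAut σ), fieldAut_mul_delta,
          mul_assoc (delta _) (fieldAut σ), ← map_mul fieldAut, hσ2, map_one, mul_one, mapGL_dg,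
          ← map_mul, dg_mul, ← hσu, map_one, mul_one] at h2
        rw [h2, delta_scalar]
      have h2 := dg_eq_of_delta p h1
      rw [mul_one, mul_one] at h2
      have h3 : σu ν = ν⁻¹ := (inv_eq_of_mul_eq_one_right h2).symm
      refine hν4 ?_
      have hall : ∀ u : Fˣ, σu u = u⁻¹ := fun u => by
        obtain ⟨l, rfl⟩ := Subgroup.mem_zpowers_iff.mp (hν u)
        rw [map_zpow, h3, _root_.inv_zpow]
      have key : ∀ u : F, u ≠ 0 → u ≠ -1 → u * u + u + 1 = 0 := by
        intro u hu hu'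
        have hu1 : (1 : F) + u ≠ 0 := fun h => hu' (eq_neg_of_add_eq_zero_right h)
        have e1 : σ u = u⁻¹ := by
          simpa [hσu] using congrArg Units.val (hall (Units.mk0 u hu))
        have e2 : σ (1 + u) = (1 + u)⁻¹ := by
          simpa [hσu] using congrArg Units.val (hall (Units.mk0 _ hu1))
        rw [map_add, map_one, e1] at e2
        have e3 : (1 + u) * (1 + u⁻¹) = 1 := by rw [e2, mul_inv_cancel₀ hu1]
        have e4 : u * u⁻¹ = 1 := mul_inv_cancel₀ hu
        linear_combination u * e3 - (1 + u) * e4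
      have h31 : (1 : F) + 1 + 1 = 0 := by
        have := key 1 one_ne_zero (fun h => h2F (by linear_combination h))
        simpa using this
      by_cases hv : (ν : F) = -1
      · exact Units.ext (by simp [hv])
      · have h4 := key ν ν.ne_zero hv
        have h5 : ((ν : F) - 1) * ((ν : F) - 1) = 0 := by linear_combination h4 - (ν : F) * h31
        have h6 : (ν : F) = 1 := sub_eq_zero.mp (mul_self_eq_zero.mp h5)
        exact Units.ext (by simp [h6])
    have h1 := congrArg Φ (hPcomm b x (hPbig b hbt hb2) hPx)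
    rw [map_mul, map_mul, hΦb, hxm, mul_assoc, fieldAut_mul_delta, ← mul_assoc, ← mul_assoc,
      mul_left_inj, mapGL_dg, ← map_mul, ← map_mul, dg_mul, dg_mul, ← hσu] at h1
    have h2 := dg_eq_of_delta p h1
    refine hσν ?_
    rw [map_inv, one_mul, mul_one] at h2
    rw [mul_comm ν (σu ν), mul_inv_cancel_right] at h2
    nth_rewrite 2 [h2]
    rw [mul_inv_cancel_left]

end CfsgLib.CyclicNorm
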