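import Cfsg.Agent.Lib.CyclicNorm.Basic
import Cfsg.Agent.S0215

/-!
# The Sylow `2`-subgroups

All involutions which are squares are central in a Sylow subgroup, and a Sylow subgroup is abelian
or has an abelian subgroup of index two inverted by every element outside it.
-/

set_option autoImplicit false
set_option linter.unusedSectionVars false
set_option linter.style.haveILetI false

namespace CfsgLib.CyclicNorm

variable {G : Type*} [Group G] [Finite G]

theorem inv_unique {x a b : G} (ha : a ∈ Subgroup.zpowers x) (hb : b ∈ Subgroup.zpowers x)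
    (ha2 : orderOf a = 2) (hb2 : orderOf b = 2) : a = b := by
  classical
  haveI := Fintype.ofFinite (Subgroup.zpowers x)
  obtain ⟨haa, ha1⟩ := orderOf_two_iff.mp ha2
  obtain ⟨hbb, hb1⟩ := orderOf_two_iff.mp hb2
  by_contra hne
  have hle : (Finset.univ.filter fun c : Subgroup.zpowers x => c ^ 2 = 1).card ≤ 2 :=
    IsCyclic.card_pow_eq_one_le (by omega)
  have hge : ({1, ⟨a, ha⟩, ⟨b, hb⟩} : Finset (Subgroup.zpowers x)).card ≤
      (Finset.univ.filter fun c : Subgroup.zpowers x => c ^ 2 = 1).card := by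
    refine Finset.card_le_card fun c hc => ?_
    simp only [Finset.mem_insert, Finset.mem_singleton] at hc
    rcases hc with rfl | rfl | rfl <;> simp [pow_two, Subtype.ext_iff, haa, hbb]
  rw [Finset.card_insert_of_notMem, Finset.card_insert_of_notMem, Finset.card_singleton] at hge
  · omega
  · simp [Subtype.ext_iff, hne]
  · simp [Subtype.ext_iff, Ne.symm ha1, Ne.symm hb1]

theorem conj_mem_zpowers {x g c : G} (hn : g ∈ Subgroup.normalizer (Subgroup.zpowers x : Set G))
    (hc : c ∈ Subgroup.zpowers x) : g * c * g⁻¹ ∈ Subgroup.zpowers x :=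
  (Subgroup.mem_normalizer_iff.mp hn c).mp hc

theorem comm_of_mem_zpowers {x a b : G} (ha : a ∈ Subgroup.zpowers x)
    (hb : b ∈ Subgroup.zpowers x) : a * b = b * a := by
  obtain ⟨i, rfl⟩ := ha
  obtain ⟨j, rfl⟩ := hb
  exact ((Commute.refl x).zpow_zpow i j).eq

theorem two_pow_order (S : Sylow 2 G) {x : G} (hx : x ∈ (S : Subgroup G)) :
    ∃ a : ℕ, orderOf x = 2 ^ a := by
  haveI := Fact.mk Nat.prime_two
  obtain ⟨k, hk⟩ := IsPGroup.iff_orderOf.mp S.2 ⟨x, hx⟩
  exact ⟨k, by rwa [Subgroup.orderOf_mk] at hk⟩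

theorem four_le_order (S : Sylow 2 G) {x : G} (hx : x ∈ (S : Subgroup G)) (h : x * x ≠ 1) :
    ∃ a : ℕ, orderOf x = 2 ^ (a + 2) := by
  obtain ⟨a, ha⟩ := two_pow_order S hx
  rcases a with _ | _ | a
  · have h1 : x = 1 := orderOf_eq_one_iff.mp (by simpa using ha)
    exact absurd (by rw [h1, mul_one]) h
  · exact absurd (orderOf_two_iff.mp (by simpa using ha)).1 h
  · exact ⟨a, ha⟩

theorem orderOf_pow_half {x : G} {a : ℕ} (h : orderOf x = 2 ^ (a + 1)) :
    orderOf (x ^ 2 ^ a) = 2 := by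
  have h2 := Nat.two_pow_pos a
  refine orderOf_two_iff.mpr ⟨?_, pow_ne_one_of_lt_orderOf h2.ne' (by rw [h, pow_succ]; omega)⟩
  rw [← pow_add, ← mul_two, ← pow_succ, ← h, pow_orderOf_eq_one]

/-- An involution which is a square is central. -/
theorem square_central (hH : Hyp G) (S : Sylow 2 G) {x : G} (hx : x ∈ (S : Subgroup G))
    (hr : orderOf (x * x) = 2) : (S : Subgroup G) ≤ cent (x * x) := by
  classical
  haveI := Fact.mk Nat.prime_two
  set r := x * x with hrdef
  set Q := (S : Subgroup G) ⊓ cent r with hQ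
  by_contra hne
  have hrx : r ∈ Subgroup.zpowers x :=
    Subgroup.mul_mem _ (Subgroup.mem_zpowers x) (Subgroup.mem_zpowers x)
  have hxr : x ∈ cent r := mem_cent.mpr (by rw [hrdef, mul_assoc])
  have hxQ : x ∈ Q := ⟨hx, hxr⟩
  have hQlt : Q.subgroupOf (S : Subgroup G) < ⊤ := by
    refine lt_top_iff_ne_top.mpr fun h => hne fun s hs => ?_
    exact ((Subgroup.subgroupOf_eq_top.mp h) hs).2
  haveI := S.2.isNilpotent
  obtain ⟨g0, hg0n, hg0⟩ := SetLike.exists_of_lt
    (Group.normalizerCondition_of_isNilpotent (G := (S : Subgroup G)) (_ : Subgroup _) hQlt)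
  have hg0Q : (g0 : G) ∈ Subgroup.normalizer (Q : Set G) := by
    refine Subgroup.mem_normalizer_iff.mpr fun c => ?_
    constructor
    · intro hc
      exact (Subgroup.mem_normalizer_iff.mp hg0n ⟨c, hc.1⟩).mp hc
    · intro hc
      have hcS : c ∈ (S : Subgroup G) := by
        have := (S : Subgroup G).mul_mem ((S : Subgroup G).mul_mem
          ((S : Subgroup G).inv_mem g0.2) hc.1) g0.2
        simpa [mul_assoc] using this
      exact (Subgroup.mem_normalizer_iff.mp hg0n ⟨c, hcS⟩).mpr hc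
  -- an element outside whose square is inside
  have hex : ∃ j, (g0 : G) ^ 2 ^ j ∈ Q := by
    obtain ⟨k, hk⟩ := S.2 g0
    exact ⟨k, by rw [← SubmonoidClass.coe_pow, hk]; exact Q.one_mem⟩
  obtain ⟨g, hgS, hgN, hgQ, hg2⟩ : ∃ g : G, g ∈ (S : Subgroup G) ∧
      g ∈ Subgroup.normalizer (Q : Set G) ∧ g ∉ Q ∧ g * g ∈ Q := by
    rcases hj : Nat.find hex with _ | j
    · exact absurd (show g0 ∈ Q.subgroupOf (S : Subgroup G) by
        simpa [hj, Subgroup.mem_subgroupOf] using Nat.find_spec hex) hg0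
    · refine ⟨(g0 : G) ^ 2 ^ j, (S : Subgroup G).pow_mem g0.2 _, pow_mem hg0Q _,
        Nat.find_min hex (by omega), ?_⟩
      rw [← pow_add, ← mul_two, ← pow_succ, ← hj]
      exact Nat.find_spec hex
  have hgr : g ∉ cent r := fun h => hgQ ⟨hgS, h⟩
  set x' := g * x * g⁻¹ with hx'
  set r' := g * r * g⁻¹ with hr'
  have hx'r' : x' * x' = r' := by rw [hx', hr', hrdef]; group
  have hne' : r' ≠ r := fun h => hgr (mem_cent_of_conj_fix h)
  have hx'Q : x' ∈ Q := (Subgroup.mem_normalizer_iff.mp hgN x).mp hxQ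
  have hr'Q : r' ∈ Q := hx'r' ▸ Q.mul_mem hx'Q hx'Q
  have hrr' : r * r' = r' * r := (mem_cent.mp hr'Q.2).symm
  have hr'2 : orderOf r' = 2 := by
    show orderOf (MulAut.conj g r) = 2
    rw [MulEquiv.orderOf_eq]; exact hr
  have hr'x' : r' ∈ Subgroup.zpowers x' := hx'r' ▸
    Subgroup.mul_mem _ (Subgroup.mem_zpowers x') (Subgroup.mem_zpowers x')
  have hggr : g * g * r * (g * g)⁻¹ = r := conj_fix_of_mem_cent hg2.2
  have hgr' : g * r' * g⁻¹ = r := by
    rw [hr']; simpa [mul_assoc] using hggr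
  -- `x` centralizes `r'`
  have hxr' : x ∈ cent r' := by
    have h1 : g⁻¹ * x * g ∈ Q := (Subgroup.mem_normalizer_iff.mp hgN _).mpr (by
      simpa [mul_assoc] using hxQ)
    have h2 := conj_mem_cent (g := g) h1.2
    rwa [show g * (g⁻¹ * x * g) * g⁻¹ = x by group] at h2
  -- `x` and `x'` commute
  have hxx' : x * x' = x' * x := by
    by_contra hc
    set c := x * x' * x⁻¹ * x'⁻¹ with hcdef
    have hc1 : c ≠ 1 := by
      intro h
      refine hc ?_
      rw [hcdef, mul_inv_eq_one, mul_inv_eq_iff_eq_mul] at h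
      exact h
    have hcx' : c ∈ Subgroup.zpowers x' := Subgroup.mul_mem _
      (conj_mem_zpowers (cent_normalizes hH hr'2 hr'x' hxr') (Subgroup.mem_zpowers x'))
      (Subgroup.inv_mem _ (Subgroup.mem_zpowers x'))
    have hcx : c ∈ Subgroup.zpowers x := by
      have h1 := conj_mem_zpowers (cent_normalizes hH hr hrx hx'Q.2)
        (Subgroup.inv_mem _ (Subgroup.mem_zpowers x))
      have h2 := Subgroup.mul_mem _ (Subgroup.mem_zpowers x) h1
      simpa [hcdef, mul_assoc] using h2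
    obtain ⟨a, ha⟩ := two_pow_order S ((S : Subgroup G).mul_mem ((S : Subgroup G).mul_mem
      ((S : Subgroup G).mul_mem hx hx'Q.1) ((S : Subgroup G).inv_mem hx))
      ((S : Subgroup G).inv_mem hx'Q.1))
    rcases a with _ | a
    · exact hc1 (orderOf_eq_one_iff.mp ha)
    · exact hne' ((inv_unique (Subgroup.pow_mem _ hcx' _) hr'x' (orderOf_pow_half ha) hr'2).symm.trans
        (inv_unique (Subgroup.pow_mem _ hcx _) hrx (orderOf_pow_half ha) hr))
  have hrr2 : orderOf (r * r') = 2 := by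
    refine orderOf_two_iff.mpr ⟨?_, fun h => hne' ?_⟩
    · rw [show r * r' * (r * r') = r * (r' * r) * r' by group, ← hrr',
        show r * (r * r') * r' = (r * r) * (r' * r') by group, (orderOf_two_iff.mp hr).1,
        (orderOf_two_iff.mp hr'2).1, one_mul]
    · rw [eq_inv_of_mul_eq_one_right h, inv_eq_of_mul_eq_one_right (orderOf_two_iff.mp hr).1]
  have hxrr : x ∈ cent (r * r') := mem_cent.mpr (by
    rw [← mul_assoc, mem_cent.mp hxr, mul_assoc, mem_cent.mp hxr', ← mul_assoc])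
  by_cases hg1 : g * g = 1
  · have hginv : g⁻¹ = g := inv_eq_of_mul_eq_one_right hg1
    have hgxg : g * x * g = x' := by rw [hx', hginv]
    set y := g * x with hy
    have hyy : y * y = x' * x := by rw [← hgxg, hy]; group
    have hy4 : r * r' ∈ Subgroup.zpowers y := by
      refine ⟨((4 : ℕ) : ℤ), ?_⟩
      show y ^ ((4 : ℕ) : ℤ) = r * r'
      rw [zpow_natCast, show (4 : ℕ) = 2 + 2 from rfl, pow_add, pow_two, hyy,
        show x' * x * (x' * x) = x' * (x * x') * x by group, hxx',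
        show x' * (x' * x) * x = (x' * x') * (x * x) by group, hx'r', ← hrdef, hrr']
    have h1 := conj_mem_zpowers (cent_normalizes hH hrr2 hy4 hxrr) (Subgroup.mem_zpowers y)
    rw [show x * y * x⁻¹ = x * g by rw [hy]; group] at h1
    have h2 : y * (x * g) = x * g * y := comm_of_mem_zpowers (Subgroup.mem_zpowers y) h1
    refine hne' ?_
    calc r' = g * (x * x) * g := by rw [hr', hginv]
      _ = y * (x * g) := by rw [hy]; group
      _ = x * g * y := h2
      _ = x * (g * g) * x := by rw [hy]; group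
      _ = r := by rw [hg1, mul_one, hrdef]
  · obtain ⟨a, ha⟩ := four_le_order S hgS hg1
    set s := g ^ 2 ^ (a + 1) with hs
    have hs2 : orderOf s = 2 := orderOf_pow_half ha
    have hsg : s ∈ Subgroup.zpowers g := Subgroup.pow_mem _ (Subgroup.mem_zpowers g) _
    have hsQ : s ∈ Q := by
      rw [hs, pow_succ, pow_mul', pow_two]
      exact Q.pow_mem hg2 _
    have hrs : r ∈ cent s := mem_cent_symm hsQ.2
    have h1 := Subgroup.mul_mem _ (conj_mem_zpowers (cent_normalizes hH hs2 hsg hrs)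
      (Subgroup.mem_zpowers g)) (Subgroup.inv_mem _ (Subgroup.mem_zpowers g))
    have hrinv : r⁻¹ = r := inv_eq_of_mul_eq_one_right (orderOf_two_iff.mp hr).1
    rw [show r * g * r⁻¹ * g⁻¹ = r * (g * r⁻¹ * g⁻¹) by group, hrinv, ← hr'] at h1
    have hseq : r * r' = s := inv_unique h1 hsg hrr2 hs2
    have hxs : x ∈ cent s := hseq ▸ hxrr
    have h2 := Subgroup.mul_mem _ (conj_mem_zpowers (cent_normalizes hH hs2 hsg hxs)
      (Subgroup.mem_zpowers g)) (Subgroup.inv_mem _ (Subgroup.mem_zpowers g))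
    rw [show x * g * x⁻¹ * g⁻¹ = x * x'⁻¹ by rw [hx']; group] at h2
    have h3 : g * (x * x'⁻¹) * g⁻¹ = x * x'⁻¹ := mul_inv_eq_iff_eq_mul.mpr
      (comm_of_mem_zpowers (Subgroup.mem_zpowers g) h2)
    rw [show g * (x * x'⁻¹) * g⁻¹ = x' * (g * g * x * (g * g)⁻¹)⁻¹ by rw [hx']; group] at h3
    set d := g * g * x * (g * g)⁻¹ with hd
    have hdx : d ∈ Subgroup.zpowers x :=
      conj_mem_zpowers (cent_normalizes hH hr hrx hg2.2) (Subgroup.mem_zpowers x)
    have h4 : r' = d * x := by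
      rw [← hx'r']
      have h5 : x' = x * x'⁻¹ * d := by rw [← h3]; group
      calc x' * x' = x * x'⁻¹ * d * x' := congrArg (· * x') h5
        _ = x * (x'⁻¹ * d * x') := by group
        _ = x * d := by
          obtain ⟨k, hk⟩ := Subgroup.mem_zpowers_iff.mp hdx
          have e := (show Commute x x' from hxx').zpow_left k
          rw [← hk, mul_assoc x'⁻¹, e.eq, inv_mul_cancel_left]
        _ = d * x := comm_of_mem_zpowers (Subgroup.mem_zpowers x) hdx
    exact hne' (inv_unique (h4 ▸ Subgroup.mul_mem _ hdx (Subgroup.mem_zpowers x)) hrx hr'2 hr)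

/-- An element of order at least four has a central involution among its powers. -/
theorem exists_central_power (hH : Hyp G) (S : Sylow 2 G) {x : G} (hx : x ∈ (S : Subgroup G))
    (h : x * x ≠ 1) : ∃ z, z ∈ Subgroup.zpowers x ∧ orderOf z = 2 ∧ (S : Subgroup G) ≤ cent z := by
  obtain ⟨a, ha⟩ := four_le_order S hx h
  have h2 := orderOf_pow_half ha
  refine ⟨_, Subgroup.pow_mem _ (Subgroup.mem_zpowers x) _, h2, ?_⟩
  have e : x ^ 2 ^ (a + 1) = x ^ 2 ^ a * x ^ 2 ^ a := by rw [← pow_add, ← mul_two, ← pow_succ]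
  rw [e] at h2 ⊢
  exact square_central hH S ((S : Subgroup G).pow_mem hx _) h2

/-- `⟨x⟩` is normal in `S` if `x ^ 2 ≠ 1`. -/
theorem sylow_normalizes (hH : Hyp G) (S : Sylow 2 G) {x : G} (hx : x ∈ (S : Subgroup G))
    (h : x * x ≠ 1) : (S : Subgroup G) ≤ Subgroup.normalizer (Subgroup.zpowers x : Set G) := by
  obtain ⟨z, hz, hz2, hzS⟩ := exists_central_power hH S hx h
  exact hzS.trans (cent_normalizes hH hz2 hz)

theorem commutator_mem (hH : Hyp G) (S : Sylow 2 G) {x y : G} (hx : x ∈ (S : Subgroup G))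
    (hy : y ∈ (S : Subgroup G)) (hx2 : x * x ≠ 1) (hy2 : y * y ≠ 1) :
    x * y * x⁻¹ * y⁻¹ ∈ Subgroup.zpowers x ∧ x * y * x⁻¹ * y⁻¹ ∈ Subgroup.zpowers y := by
  refine ⟨?_, Subgroup.mul_mem _ (conj_mem_zpowers (sylow_normalizes hH S hy hy2 hx)
    (Subgroup.mem_zpowers y)) (Subgroup.inv_mem _ (Subgroup.mem_zpowers y))⟩
  have := Subgroup.mul_mem _ (Subgroup.mem_zpowers x) (conj_mem_zpowers
    (sylow_normalizes hH S hx hx2 hy) (Subgroup.inv_mem _ (Subgroup.mem_zpowers x)))
  simpa [mul_assoc] using this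

/-- Two noncommuting elements of order at least four have the same involution. -/
theorem involution_eq (hH : Hyp G) (S : Sylow 2 G) {x y a b : G} (hx : x ∈ (S : Subgroup G))
    (hy : y ∈ (S : Subgroup G)) (hx2 : x * x ≠ 1) (hy2 : y * y ≠ 1) (hc : x * y ≠ y * x)
    (ha : a ∈ Subgroup.zpowers x) (ha2 : orderOf a = 2) (hb : b ∈ Subgroup.zpowers y)
    (hb2 : orderOf b = 2) : a = b := by
  obtain ⟨h1, h2⟩ := commutator_mem hH S hx hy hx2 hy2
  have hc1 : x * y * x⁻¹ * y⁻¹ ≠ 1 := by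
    intro h
    rw [mul_inv_eq_one, mul_inv_eq_iff_eq_mul] at h
    exact hc h
  obtain ⟨n, hn⟩ := two_pow_order S ((S : Subgroup G).mul_mem ((S : Subgroup G).mul_mem
    ((S : Subgroup G).mul_mem hx hy) ((S : Subgroup G).inv_mem hx)) ((S : Subgroup G).inv_mem hy))
  rcases n with _ | n
  · exact absurd (orderOf_eq_one_iff.mp hn) hc1
  · exact (inv_unique (Subgroup.pow_mem _ h1 _) ha (orderOf_pow_half hn) ha2).symm.trans
      (inv_unique (Subgroup.pow_mem _ h2 _) hb (orderOf_pow_half hn) hb2)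

end CfsgLib.CyclicNorm
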